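import Cfsg.Agent.KFacts.Co2.Mono
import Cfsg.Agent.Omega.CoTwoK.Span
import Cfsg.Agent.Co2Type.Mono
import Cfsg.Agent.KFacts.Co2.T1
import Cfsg.Agent.Co2Type.FactsD
import Cfsg.Agent.Co2Type.TGroup
import Cfsg.Agent.Co2Type.FactsClass
import Cfsg.Agent.Co2Type.TCard

section


/-!
# The stabiliser `N` of `E` in `Spor.Co2`, and the hyperplanes `Ξ`, `Ξ_f` of `E` (helper904)

`N = N(E)` is the set of the elements `mo2 m Q` (`exN`, `mo2_mem_N`);
`Xi = {ge m | bit 4 of m is 0}`, `Xf = {ge m | bit 4 = bit 10}`.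
-/

set_option autoImplicit false
set_option linter.dupNamespace false

namespace Cfsg.Agent.Omega.CoTwoK.Normal

open Cfsg Cfsg.Agent.SporadicA.GolayBase Cfsg.Agent.SporadicA.GolayPerm
open Cfsg.Agent.SporadicStructure.M24El Cfsg.Agent.SporadicA.Co0Mono
open Cfsg.Agent.Co2Type.Mono Cfsg.Agent.Co2Type.TGroup Cfsg.Agent.Co2Type.TData Cfsg.Agent.Co2Type.FactsD
open Cfsg.Agent.SporadicStructure.Co0Base (e8 e8_coe)
open Cfsg.Agent.KFacts.CoTwo.Base Cfsg.Agent.KFacts.Co2.Mono Cfsg.Agent.Omega.CoTwoK.Span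

/-- the stabiliser of `E` -/
abbrev N : Subgroup Spor.Co2 := Subgroup.normalizer (E : Set Spor.Co2)

theorem mem_E {g : Spor.Co2} : g ∈ E ↔ ∃ m, inE m = true ∧ g = ge m := Iff.rfl

theorem ge_inj {m n : ℕ} (hm : inE m = true) (hn : inE n = true) (h : ge m = ge n) : m = n :=
  (mo2_inj hm hn okP_idP okP_idP Cfsg.Agent.Co2Type.TGroup.idP_lt Cfsg.Agent.Co2Type.TGroup.idP_lt h).1

theorem ge_inv {m : ℕ} (hm : inE m = true) : (ge m)⁻¹ = ge m := inv_eq_of_mul_eq_one_left (ge_sq hm)

theorem conj_mo2 {m n Q : ℕ} (hm : inE m = true) (hQ : okP Q = true) (hlt : Q < 2 ^ 120) (hn : inE n = true) :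
    mo2 m Q * ge n * (mo2 m Q)⁻¹ = ge (pimg Q n) := by
  rw [ge_def, ge_def, mo2_conj_E hm hn hQ hlt, mul_inv_cancel_right]

theorem mo2_mem_N {m Q : ℕ} (hm : inE m = true) (hQ : okP Q = true) (hlt : Q < 2 ^ 120) : mo2 m Q ∈ N := by
  apply Subgroup.mem_normalizer_fintype
  rintro x ⟨n, hn, rfl⟩
  exact ⟨pimg Q n, inE_pimg hQ hn, conj_mo2 hm hQ hlt hn⟩

theorem im_of_mem_N {g : Spor.Co2} (hg : g ∈ N) : im g = e8 none ∨ im g = e8 (some 0) := by
  apply im_cases'
  intro m hm
  obtain ⟨n, hn, h2⟩ := (Subgroup.mem_normalizer_iff''.1 hg (ge m)).1 (ge_mem hm)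
  have h3 : ge m * g = g * ge n := by rw [ge_def n, ← h2]; group
  rw [im_def, ← mul_smul, ← map_mul, h3, map_mul, mul_smul, ge_smul_none hn]

theorem exN {g : Spor.Co2} (hg : g ∈ N) :
    ∃ m Q, inE m = true ∧ okP Q = true ∧ Q < 2 ^ 120 ∧ g = mo2 m Q := exists_mo2_of_im (im_of_mem_N hg)

theorem mem_N_iff {g : Spor.Co2} : g ∈ N ↔ im g = e8 none ∨ im g = e8 (some 0) := by
  refine ⟨im_of_mem_N, fun h => ?_⟩
  obtain ⟨m, Q, hm, hQ, hlt, rfl⟩ := exists_mo2_of_im h
  exact mo2_mem_N hm hQ hlt

theorem E_le_N : E ≤ N := Subgroup.le_normalizer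

/-! ### the subgroup of `E` defined by a closed set of masks -/

/-- the subgroup of the `ge m`, `m ∈ S` -/
def Ms (S : Set ℕ) (hS : Cl S) : Subgroup Spor.Co2 where
  carrier := {g | ∃ m, inE m = true ∧ m ∈ S ∧ g = ge m}
  one_mem' := ⟨0, inE_zero, hS.zero, ge_zero.symm⟩
  mul_mem' := by
    rintro _ _ ⟨m, hm, h1, rfl⟩ ⟨n, hn, h2, rfl⟩
    exact ⟨m ^^^ n, inE_xor hm hn, hS.xor _ _ h1 h2, ge_mul hm hn⟩
  inv_mem' := by
    rintro _ ⟨m, hm, h1, rfl⟩
    exact ⟨m, hm, h1, ge_inv hm⟩

variable {S : Set ℕ} {hS : Cl S}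

theorem mem_Ms {g : Spor.Co2} : g ∈ Ms S hS ↔ ∃ m, inE m = true ∧ m ∈ S ∧ g = ge m := Iff.rfl

theorem ge_mem_Ms {m : ℕ} (hm : inE m = true) : ge m ∈ Ms S hS ↔ m ∈ S := by
  constructor
  · rintro ⟨n, hn, h1, h2⟩
    rw [ge_inj hm hn h2]; exact h1
  · exact fun h => ⟨m, hm, h, rfl⟩

theorem Ms_le : Ms S hS ≤ E := by
  rintro _ ⟨m, hm, -, rfl⟩
  exact ge_mem hm

theorem mo2_norm_Ms {m Q : ℕ} (hm : inE m = true) (hQ : okP Q = true) (hlt : Q < 2 ^ 120)
    (h : ∀ n, inE n = true → n ∈ S → pimg Q n ∈ S) : mo2 m Q ∈ Subgroup.normalizer (Ms S hS : Set Spor.Co2) := by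
  apply Subgroup.mem_normalizer_fintype
  rintro x ⟨n, hn, h1, rfl⟩
  exact ⟨pimg Q n, inE_pimg hQ hn, h n hn h1, conj_mo2 hm hQ hlt hn⟩

theorem pimg_mem {m n Q : ℕ} (hm : inE m = true) (hQ : okP Q = true) (hlt : Q < 2 ^ 120)
    (h : mo2 m Q ∈ Subgroup.normalizer (Ms S hS : Set Spor.Co2)) (hn : inE n = true) :
    pimg Q n ∈ S ↔ n ∈ S := by
  have h1 := Subgroup.mem_normalizer_iff.1 h (ge n)
  rw [conj_mo2 hm hQ hlt hn, ge_mem_Ms hn, ge_mem_Ms (inE_pimg hQ hn)] at h1
  exact h1.symm

theorem card_Ms {a : ℕ} (ha : inE a = true) (ha' : a ∉ S)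
    (h : ∀ n, inE n = true → n ∉ S → n ^^^ a ∈ S) : Nat.card (Ms S hS) = 2 ^ 9 := by
  have h1 : (Ms S hS).relIndex E = 2 := by
    rw [Subgroup.relIndex_eq_two_iff_exists_notMem_and]
    refine ⟨ge a, ge_mem ha, fun h2 => ha' ((ge_mem_Ms ha).1 h2), ?_⟩
    rintro _ ⟨n, hn, rfl⟩
    by_cases h3 : n ∈ S
    · exact Or.inr ((ge_mem_Ms hn).2 h3)
    · left
      have h4 : mo2 n idP * ge a = ge (n ^^^ a) := ge_mul hn ha
      rw [h4]
      exact (ge_mem_Ms (inE_xor hn ha)).2 (h n hn h3)
  have h2 := Subgroup.relIndex_mul_relIndex (⊥ : Subgroup Spor.Co2) (Ms S hS) E bot_le Ms_le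
  rw [Subgroup.relIndex_bot_left, Subgroup.relIndex_bot_left, h1, Cfsg.Agent.Co2Type.TCard.card_E] at h2
  omega

/-! ### the hyperplanes -/

/-- masks without the point 4 -/
def SXi : Set ℕ := {m | m.testBit 4 = false}

theorem cl_SXi : Cl SXi where
  zero := by show (0 : ℕ).testBit 4 = false; decide
  xor a b ha hb := by
    have ha' : a.testBit 4 = false := ha
    have hb' : b.testBit 4 = false := hb
    show (a ^^^ b).testBit 4 = false
    rw [Nat.testBit_xor, ha', hb']; rfl

/-- masks with the same bits at 4 and 10 -/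
def SXf : Set ℕ := {m | m.testBit 4 = m.testBit 10}

theorem cl_SXf : Cl SXf where
  zero := by show (0 : ℕ).testBit 4 = (0 : ℕ).testBit 10; decide
  xor a b ha hb := by
    have ha' : a.testBit 4 = a.testBit 10 := ha
    have hb' : b.testBit 4 = b.testBit 10 := hb
    show (a ^^^ b).testBit 4 = (a ^^^ b).testBit 10
    rw [Nat.testBit_xor, Nat.testBit_xor, ha', hb']

/-- `Ξ` -/
def Xi : Subgroup Spor.Co2 := Ms SXi cl_SXi

/-- `Ξ_f` -/
def Xf : Subgroup Spor.Co2 := Ms SXf cl_SXf

theorem mem_Xi {g : Spor.Co2} : g ∈ Xi ↔ ∃ m, inE m = true ∧ m.testBit 4 = false ∧ g = ge m := Iff.rfl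

theorem mem_Xf {g : Spor.Co2} : g ∈ Xf ↔ ∃ m, inE m = true ∧ m.testBit 4 = m.testBit 10 ∧ g = ge m := Iff.rfl

theorem ge_mem_Xi {m : ℕ} (hm : inE m = true) : ge m ∈ Xi ↔ m.testBit 4 = false := ge_mem_Ms hm

theorem ge_mem_Xf {m : ℕ} (hm : inE m = true) : ge m ∈ Xf ↔ m.testBit 4 = m.testBit 10 := ge_mem_Ms hm

theorem Xi_le : Xi ≤ E := Ms_le

theorem Xf_le : Xf ≤ E := Ms_le

theorem chkA : (inE 1050548 && (1050548 : ℕ).testBit 4 && inE 2101096 && !((2101096 : ℕ).testBit 4) &&
    (2101096 : ℕ).testBit 10) = true := by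
  decide +kernel

theorem card_Xi : Nat.card Xi = 2 ^ 9 := by
  have h0 := chkA
  simp only [Bool.and_eq_true, Bool.not_eq_true'] at h0
  refine card_Ms (a := 1050548) h0.1.1.1.1 (fun h => ?_) fun n _ h => ?_
  · have h' : (1050548 : ℕ).testBit 4 = false := h
    rw [h0.1.1.1.2] at h'
    exact Bool.noConfusion h'
  · have h' : n.testBit 4 = true := by
      rw [← Bool.not_eq_false]; exact h
    show (n ^^^ 1050548).testBit 4 = false
    rw [Nat.testBit_xor, h', h0.1.1.1.2]; rfl

theorem card_Xf : Nat.card Xf = 2 ^ 9 := by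
  have h0 := chkA
  simp only [Bool.and_eq_true, Bool.not_eq_true'] at h0
  have e : (2101096 : ℕ).testBit 4 ≠ (2101096 : ℕ).testBit 10 := by rw [h0.1.2, h0.2]; decide
  refine card_Ms (a := 2101096) h0.1.1.2 e fun n _ h => ?_
  have h' : n.testBit 4 ≠ n.testBit 10 := h
  show (n ^^^ 2101096).testBit 4 = (n ^^^ 2101096).testBit 10
  rw [Nat.testBit_xor, Nat.testBit_xor]
  revert h' e
  cases n.testBit 4 <;> cases n.testBit 10 <;> cases (2101096 : ℕ).testBit 4 <;>
    cases (2101096 : ℕ).testBit 10 <;> decide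

theorem Xi_ne_Xf : Xi ≠ Xf := by
  intro h
  have h0 := chkA
  simp only [Bool.and_eq_true, Bool.not_eq_true'] at h0
  have h1 : (inE 2624690 && !((2624690 : ℕ).testBit 4 == false) &&
      ((2624690 : ℕ).testBit 4 == (2624690 : ℕ).testBit 10)) = true := by decide +kernel
  simp only [Bool.and_eq_true, Bool.not_eq_true', beq_iff_eq] at h1
  have h2 : ge 2624690 ∈ Xf := (ge_mem_Xf h1.1.1).2 h1.2
  rw [← h] at h2
  have h3 := (ge_mem_Xi h1.1.1).1 h2
  rw [h3] at h1
  simp at h1

/-! ### the stabilisers of the hyperplanes -/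

/-- a basis of the masks of `Ξ` -/
def BXi : List ℕ := [5249380, 2101096, 1573998, 792232, 280334, 138790, 72588, 36294, 31554]

/-- a basis of the masks of `Ξ_f` -/
def BXf : List ℕ := [4202192, 2624690, 1050548, 663036, 267634, 168928, 72588, 57274, 31554]

theorem chkBXi : BXi.all (fun m => inE m && !(Nat.testBit m 4)) = true := by decide +kernel

theorem chkBXi' : (List.range 24).all (fun i => Nat.beq i 0 || Nat.beq i 23 || Nat.beq i 4 ||
    BXi.any fun m => Nat.testBit m i) = true := by decide +kernel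

/-- the stabiliser of `Ξ` in `N` is the stabiliser of the point 4 -/
theorem mo2_norm_Xi_iff {m Q : ℕ} (hm : inE m = true) (hQ : okP Q = true) (hlt : Q < 2 ^ 120) :
    mo2 m Q ∈ Subgroup.normalizer (Xi : Set Spor.Co2) ↔ papp Q 4 = 4 := by
  have hp := (ok_iff.1 (ok_of_okP hQ)).1
  constructor
  · intro h
    by_contra hne
    have hj : papp Q 4 < 24 := papp_lt hp (by norm_num)
    obtain ⟨i, hi, hi4⟩ : ∃ i < 24, papp Q i = 4 := by
      have hs : Function.Surjective fun i : Fin 24 => (⟨papp Q i, papp_lt hp i.2⟩ : Fin 24) := by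
        apply Finite.surjective_of_injective
        intro i j hij
        have h1 : papp Q i = papp Q j := congrArg Fin.val hij
        have h2 : idx (permOf Q hp (pt i)) = idx (permOf Q hp (pt j)) := by
          rw [idx_permOf, idx_permOf, idx_pt i.2, idx_pt j.2, h1]
        have h3 := (permOf Q hp).injective (idx_injective h2)
        have h4 := congrArg idx h3
        rw [idx_pt i.2, idx_pt j.2] at h4
        exact Fin.ext h4
      obtain ⟨i, hi⟩ := hs ⟨4, by norm_num⟩
      exact ⟨i, i.2, congrArg Fin.val hi⟩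
    have hi0 : i ≠ 4 := by
      rintro rfl
      exact hne hi4
    have h1 := List.all_eq_true.1 chkBXi' i (List.mem_range.2 hi)
    have key : ∀ n, inE n = true → Nat.testBit n 4 = false → Nat.testBit n i = false := by
      intro n hn h4
      have h5 := (pimg_mem (S := SXi) (hS := cl_SXi) hm hQ hlt h hn).2 h4
      have h6 : (pimg Q n).testBit 4 = false := h5
      rwa [← hi4, testBit_pimg_papp hp n hi] at h6
    rcases (Bool.or_eq_true _ _).mp h1 with h1 | h1
    · rcases (Bool.or_eq_true _ _).mp h1 with h1 | h1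
      · have hP := okP_iff.1 hQ
        rcases (Bool.or_eq_true _ _).mp h1 with h1 | h1
        · have : i = 0 := Nat.eq_of_beq_eq_true h1
          subst this
          rcases hP.2 with ⟨a, b⟩ | ⟨a, b⟩ <;> omega
        · have : i = 23 := Nat.eq_of_beq_eq_true h1
          subst this
          rcases hP.2 with ⟨a, b⟩ | ⟨a, b⟩ <;> omega
      · exact hi0 (Nat.eq_of_beq_eq_true h1)
    · obtain ⟨n, hn, h2⟩ := List.any_eq_true.1 h1
      have h3 := List.all_eq_true.1 chkBXi n hn
      simp only [Bool.and_eq_true, Bool.not_eq_true'] at h3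
      rw [key n h3.1 h3.2] at h2
      exact Bool.noConfusion h2
  · intro h
    apply mo2_norm_Ms hm hQ hlt
    intro n _ hn
    have hn' : n.testBit 4 = false := hn
    show (pimg Q n).testBit 4 = false
    have := testBit_pimg_papp hp n (show 4 < 24 by norm_num)
    rw [h] at this
    rw [this, hn']

theorem mo2_norm_Xf {m Q : ℕ} (hm : inE m = true) (hQ : okP Q = true) (hlt : Q < 2 ^ 120)
    (h : (papp Q 4 = 4 ∧ papp Q 10 = 10) ∨ (papp Q 4 = 10 ∧ papp Q 10 = 4)) :
    mo2 m Q ∈ Subgroup.normalizer (Xf : Set Spor.Co2) := by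
  have hp := (ok_iff.1 (ok_of_okP hQ)).1
  apply mo2_norm_Ms hm hQ hlt
  intro n _ hn
  have hn' : n.testBit 4 = n.testBit 10 := hn
  show (pimg Q n).testBit 4 = (pimg Q n).testBit 10
  have e4 := testBit_pimg_papp hp n (show 4 < 24 by norm_num)
  have e10 := testBit_pimg_papp hp n (show 10 < 24 by norm_num)
  rcases h with ⟨h1, h2⟩ | ⟨h1, h2⟩
  · rw [h1] at e4
    rw [h2] at e10
    rw [e4, e10, hn']
  · rw [h1] at e4
    rw [h2] at e10
    rw [e4, e10, hn']

end Cfsg.Agent.Omega.CoTwoK.Normal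

end

section


/-!
# Packed permutations for the facts on `Spor.Co2` (helper904)

`repsN j` maps 4 to `j`; `reps4 j` fixes 4 and maps 1 to `j`.
-/

set_option autoImplicit false

namespace Cfsg.Agent.Omega.CoTwoK.PData

/-- permutations mapping 4 to the points 1, ..., 22 -/
def repsN : List ℕ := [0xb8dae5590b64285a89f149cc194c80,
  0xbb90d5060f2ae668c869b50e2a9180,
  0x26ab150908964e6aacc99903784f7,
  0x28e59c9b00d1eba89c662124b0e37,
  0x492454e2173e8d58cecac105158d7,
  0xbca88b28353b9647cd906a4a610e20,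
  0xbcd811da24a15b5809e65b90792920,
  0xbd88550a8e7d42b88cd069d8894d20,
  0xb88d4959a43c101628af8adc998ea0,
  0x14249d191abe4b38866b3a0a6a137,
  0xbc926b2881a391568e1129deb98980,
  0xb8d70549cf222b4289a689d2c9d820,
  0xbc8c714d348b2157d828215cd1a960,
  0xba9f1b08ab3912684d140d5ae90d80,
  0xb8d359c8ad710ec45a81844cf50960,
  0xb8aa8958ac0a687229ae5c5f098cc0,
  0xb98f46b0b52224e4cc2a78a11b2c60,
  0xb96ae151f10b14b34ec7192126a120,
  0x1d6c904af312c8a8c51535d34c297,
  0xbcd671888c4392f2d9b08983454aa0,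
  0xbd9a194cf42c16f20e2c32515509c0,
  0xbbd6c920873166188c555353675200]

/-- permutations fixing 4, mapping 1 to the points different from 0, 4, 23 -/
def reps4 : List ℕ := [0xbb142b4a892d4d36b86f3ad0484420,
  0xbd1ac7c2b1286487592a58cc499c40,
  0xb9cb17b02eab6d4849624cd0451860,
  0xb864250eafa30f65b6704c5c4320a0,
  0x582b1320ea44725250facda429cd7,
  0xbbe72129c5835168a46ba9984a04e0,
  0x1d529d92573022350715d5a483d17,
  0xb9672b2ab431e035b44c0a2247b920,
  0x4e0b33e4d644e110dd4b55042a557,
  0xdd53c6d453429821e22c8c464d77,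
  0xba9353c6741990e805f2289a45d980,
  0x220a9864b78a2c3d8b4a8cc44b9b7,
  0xbb6d310c2829a2a61e49a56047adc0,
  0x22029c6456a82970d75a58c461df7,
  0x2e216bd154a993b0e54299c411e17,
  0x28e59c9b00d1eba89c662124b0e37,
  0xbd56563cee325516da9340a0418640,
  0x52a8315eb4c46c859ca389a490677,
  0xbd66ab0e264adb24044e81ca463e80,
  0xb985250caf3a693722d0645640b6a0,
  0xbb22f4d4c88154e5cce268c24952c0]

/-- permutations (irreducibility) -/
def QN : List ℕ := [0xbbca71264b690d6451931c6b0505c0,
  0xbd10d826b254ccc139e758e21216c0,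
  0x320b799058d44e22823a4da991ed7,
  0xb928a998674d9ee64a3568961820a0,
  0x567692a87695638844f4192c71217,
  0xbc50a185847a6a6939b482cf3116c0,
  0x3a934d4814285231d8bb36057c477,
  0xbd04f2c1ab8a8d20baa365a68224e0,
  0xba8449526ea99312c0ef0a2c36ad80,
  0xb9a7125609628f673ca208e486d160,
  0xbca701d6c70a18d22dd44944a899e0,
  0xbbc9381947b32b21050da14715b920,
  0x4c293ac864e093a9af58cb425637,
  0x124250c2b351b33becc2a6ae84517,
  0xbbd6d486cc40dd53d0a68464450a60,
  0x36029adc8292510b12aa3c75358f7]

/-- permutations fixing 4 -/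
def Q4 : List ℕ := [0xba86e7d20db2cf26051529a2412660,
  0x520f704b21da269b5754292461c57,
  0xbd576821864b9e514473548e40d1a0,
  0x9ea736688506509acb3c584926b7,
  0xb99920ad3429da854053b0e2473ea0,
  0xbd8cb1d4e82b5529be29809c40b280,
  0xba8cd148b1aa1e90cdc765164b0e00,
  0x157353c500ca953d91160cc46b937,
  0xbd04f94228705954b4a61cce45aac0,
  0xb84b13c1ebb3a66125ac5550490e80,
  0xb89061b6ac8466ab2c25a49243bdc0,
  0x452309cc5136b0a2a4f721845da77,
  0x42261ad54635323a2b3105e4b15d7,
  0xb8e960c9756450669cae7aa6482440,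
  0xb95683244c759a783e81ac54498e40,
  0xb95c8a4a026d56f604679c524b1940,
  0x2df44aac7346a128c534364473217]

/-- permutations preserving {4, 10} -/
def QF : List ℕ := [0x36c90a0455d2538a9c7abe0430d97,
  0xba12c29e55735768105430e2a0be60,
  0x42513566d3b8436296f2d1044d837,
  0xb844e49a96414f2191b59c1ea64560,
  0xba2163bdd2a8d345926c6984a09620,
  0xba44d7ae8861a27710738542ab48a0,
  0xbce8d8d9c192209110677accaa9580,
  0xbace58359644de672a22186a4a4920,
  0x1a459ba0f185abb28e24b1048d2b7,
  0xb998b921f11d9c269025aa4ea84e80,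
  0xbd1b6a9ccb124288aa4c741e428e60,
  0x4d28ad2d99615a286e7a1843d857,
  0xbb9e19c596440f25a9b549444a1860]

end Cfsg.Agent.Omega.CoTwoK.PData

end

section


/-!
# The third parabolic of `Spor.Co2` (helper904)

`PP` = the stabiliser of the cosets `N`, `g₀N`, `g₀⁻¹N` : `E ≤ PP`, `|PP : PP ∩ N| = 3`,
`Ξ_f = {x ∈ E | g x g⁻¹ ∈ N for all g ∈ PP}`.
-/

set_option autoImplicit false
set_option linter.dupNamespace false

namespace Cfsg.Agent.Omega.CoTwoK.Sextet

open Cfsg Cfsg.Agent.SporadicA.GolayBase Cfsg.Agent.SporadicA.GolayPerm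
open Cfsg.Agent.SporadicStructure.M24El Cfsg.Agent.SporadicA.Co0Mono
open Cfsg.Agent.Co2Type.Mono Cfsg.Agent.Co2Type.TGroup Cfsg.Agent.Co2Type.TData Cfsg.Agent.Co2Type.FactsD
open Cfsg.Agent.SporadicStructure.Co0Base (e8 e8_coe)
open Cfsg.Agent.KFacts.CoTwo.Base Cfsg.Agent.KFacts.Co2.Mono Cfsg.Agent.Omega.CoTwoK.Span
open Cfsg.Agent.Omega.CoTwoK.Normal
open Cfsg.Agent.Co2Type.Co2Rels (x toCo0_x pg xw xw_eq_one rep xw_rep)
open Cfsg.Agent.Co2Type.MatsData
open Cfsg.Agent.Co2Type.Co2El (good_el Ss_eq)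
open Cfsg.Agent.LeechMat.Elements (sdig vec vec_apply)
open Cfsg.Agent.LeechMat.Words (prodW c8 c8_lt vec_c8 sqNorm_e8 run_sound)
open Cfsg.Agent.LeechMat.Code (pos pos_lt)
open Cfsg.Agent.KFacts.Co2.T1 (pos_eq_idx)
open Subgroup

/-! ### vectors supported by the tetrad `{0, 4, 10, 23}` -/

/-- vector with coordinates at 0, 4, 10, 23 -/
def tet (a b c d : ℤ) (i : GolayPt) : ℤ :=
  if idx i = 0 then a else if idx i = 4 then b else if idx i = 10 then c else if idx i = 23 then d else 0

theorem coe_leechU : ((Spor.leechU : leechLattice) : GolayPt → ℤ) = tet 4 0 0 4 := by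
  funext i
  rw [leechU_apply]
  unfold tet
  by_cases h0 : idx i = 0
  · rw [if_pos (Or.inl h0), if_pos h0]
  · rw [if_neg h0]
    by_cases h4 : idx i = 4
    · rw [if_pos h4, if_neg (by omega)]
    · rw [if_neg h4]
      by_cases h10 : idx i = 10
      · rw [if_pos h10, if_neg (by omega)]
      · rw [if_neg h10]
        by_cases h23 : idx i = 23
        · rw [if_pos h23, if_pos (Or.inr h23)]
        · rw [if_neg h23, if_neg (by omega)]

theorem coe_e8 : ((e8 none : leechLattice) : GolayPt → ℤ) = tet 0 0 0 8 := by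
  rw [e8_coe]
  decide +kernel

theorem coe_e8' : ((e8 (some 0) : leechLattice) : GolayPt → ℤ) = tet 8 0 0 0 := by
  rw [e8_coe]
  decide +kernel

theorem tet_zero (a b c d : ℤ) : tet a b c d (pt 0) = a := by
  unfold tet; rw [idx_pt (by norm_num), if_pos rfl]

theorem tet_four (a b c d : ℤ) : tet a b c d (pt 4) = b := by
  unfold tet; rw [idx_pt (by norm_num), if_neg (by norm_num), if_pos rfl]

theorem ge_tet {m : ℕ} (hm : inE m = true) {v : leechLattice} {a b c d : ℤ}
    (hv : (v : GolayPt → ℤ) = tet a b c d) : ((toCo0 (ge m) • v : leechLattice) : GolayPt → ℤ) =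
      tet a (if m.testBit 4 then -b else b) (if m.testBit 10 then -c else c) d := by
  funext i
  rw [ge_smul hm, hv]
  have h := inE_iff.1 hm
  unfold tet sgm
  by_cases h0 : idx i = 0
  · rw [if_pos h0, if_pos h0, h0, h.2.1, if_neg (by decide), one_mul]
  · rw [if_neg h0, if_neg h0]
    by_cases h4 : idx i = 4
    · rw [if_pos h4, if_pos h4, h4]
      split_ifs <;> ring
    · rw [if_neg h4, if_neg h4]
      by_cases h10 : idx i = 10
      · rw [if_pos h10, if_pos h10, h10]
        split_ifs <;> ring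
      · rw [if_neg h10, if_neg h10]
        by_cases h23 : idx i = 23
        · simp only [if_pos h23]
          rw [h23, h.2.2, if_neg (by decide), one_mul]
        · simp only [if_neg h23]
          rw [mul_zero]

/-- reflection `v ↦ 2u - v` -/
noncomputable def op (v : leechLattice) : leechLattice := Spor.leechU + Spor.leechU - v

theorem op_smul (g : Spor.Co2) (v : leechLattice) : toCo0 g • op v = op (toCo0 g • v) := by
  unfold op
  rw [smul_sub, smul_add, toCo0_smul_leechU]

theorem coe_op {v : leechLattice} {a b c d : ℤ} (hv : (v : GolayPt → ℤ) = tet a b c d) :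
    ((op v : leechLattice) : GolayPt → ℤ) = tet (8 - a) (-b) (-c) (8 - d) := by
  funext i
  show ((Spor.leechU : leechLattice) : GolayPt → ℤ) i + ((Spor.leechU : leechLattice) : GolayPt → ℤ) i -
    (v : GolayPt → ℤ) i = _
  rw [hv, coe_leechU]
  unfold tet
  split_ifs <;> norm_num

/-- the two vectors of the frame -/
def Fr (v : leechLattice) : Prop := v = e8 none ∨ v = e8 (some 0)

theorem op_e8 : op (e8 none) = e8 (some 0) := by
  apply Subtype.ext
  rw [coe_op coe_e8, coe_e8']
  norm_num

theorem fr_op : Fr (op (e8 none)) := Or.inr op_e8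

theorem fr_e8 : Fr (e8 none) := Or.inl rfl

/-! ### the element `g₀` -/

/-- element of order three -/
noncomputable def g0 : Spor.Co2 := x 0 * x 1 * x 5 * x 7

theorem g0_inv : g0⁻¹ = x 7 * x 5 * x 1 * x 0 := by
  have hp := pg
  apply inv_eq_of_mul_eq_one_right
  unfold g0
  calc x 0 * x 1 * x 5 * x 7 * (x 7 * x 5 * x 1 * x 0)
      = x 0 * x 1 * x 5 * (x 7 * x 7) * x 5 * x 1 * x 0 := by group
    _ = x 0 * x 1 * (x 5 * x 5) * x 1 * x 0 := by rw [hp.gg, mul_one]; group
    _ = x 0 * (x 1 * x 1) * x 0 := by rw [hp.ff, mul_one]; group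
    _ = 1 := by rw [hp.cc, mul_one, hp.aa]

theorem g0_pow : g0 ^ 3 = 1 := by
  have h : g0 = xw [0, 1, 5, 7] := by
    unfold g0 xw
    simp only [List.map_cons, List.map_nil, List.prod_cons, List.prod_nil, mul_one, mul_assoc]
  rw [h, ← xw_rep]
  exact xw_eq_one (by decide +kernel)

/-- code of `g₀ (8 e_∞)` -/
def c2 : ℕ := 0xa42108421084210832108420c84214

/-- code of `g₀⁻¹ (8 e_∞)` -/
def cu : ℕ := 0xa42108421084210832108421484214

theorem word_im {w : List ℕ} {c : ℕ} (hw : ∀ i ∈ w, i < 17)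
    (h : Cfsg.Agent.LeechMat.Words.run Ms Ss w (c8 23) (fun d => Nat.beq d c) = true) :
    ((prodW Cfsg.Agent.Co2Type.Co2El.el w • e8 none : leechLattice) : GolayPt → ℤ) = vec c := by
  have h23 : pos (none : GolayPt) = 23 := by rw [pos_eq_idx]; rfl
  obtain ⟨m, -, hm, hx⟩ := run_sound (Ms := Ms) (Ss := Ss) (G := Cfsg.Agent.Co2Type.Co2El.el) w
    (fun i hi => (good_el (hw i hi)).1) (fun i hi => Ss_eq i (hw i hi)) _
    (by have := c8_lt (none : GolayPt); rwa [h23] at this) _ h
  have h1 := hx (e8 none) (by rw [← vec_c8, h23]) (sqNorm_e8 _)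
  rw [h1, Nat.eq_of_beq_eq_true hm]

theorem vec_tet {c : ℕ} {p q r s : ℤ} (h : ∀ k < 24, sdig c k =
    if k = 0 then p else if k = 4 then q else if k = 10 then r else if k = 23 then s else 0) :
    vec c = tet p q r s := by
  funext i
  rw [vec_apply, pos_eq_idx, h _ (idx_lt i)]
  rfl

theorem im_g0 : ((im g0 : leechLattice) : GolayPt → ℤ) = tet 4 (-4) (-4) 4 := by
  have h : toCo0 g0 = prodW Cfsg.Agent.Co2Type.Co2El.el [0, 1, 4, 5] := by
    unfold g0
    simp only [map_mul, toCo0_x, mul_assoc]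
    show Cfsg.Agent.Co2Type.Co2El.el 0 * 1 * (Cfsg.Agent.Co2Type.Co2El.el 1 * 1 *
      (Cfsg.Agent.Co2Type.Co2El.el 4 * 1 * (Cfsg.Agent.Co2Type.Co2El.el 5 * 1))) = _
    simp only [mul_one]
    show _ = Cfsg.Agent.Co2Type.Co2El.el 0 * (Cfsg.Agent.Co2Type.Co2El.el 1 *
      (Cfsg.Agent.Co2Type.Co2El.el 4 * (Cfsg.Agent.Co2Type.Co2El.el 5 * 1)))
    rw [mul_one]
  rw [im_def, h, word_im (c := c2) (by decide) (by decide +kernel)]
  exact vec_tet (by decide +kernel)

theorem im_g0i : ((im g0⁻¹ : leechLattice) : GolayPt → ℤ) = tet 4 4 (-4) 4 := by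
  have h : toCo0 g0⁻¹ = prodW Cfsg.Agent.Co2Type.Co2El.el [5, 4, 1, 0] := by
    rw [g0_inv]
    simp only [map_mul, toCo0_x, mul_assoc]
    show Cfsg.Agent.Co2Type.Co2El.el 5 * 1 * (Cfsg.Agent.Co2Type.Co2El.el 4 * 1 *
      (Cfsg.Agent.Co2Type.Co2El.el 1 * 1 * (Cfsg.Agent.Co2Type.Co2El.el 0 * 1))) = _
    simp only [mul_one]
    show _ = Cfsg.Agent.Co2Type.Co2El.el 5 * (Cfsg.Agent.Co2Type.Co2El.el 4 *
      (Cfsg.Agent.Co2Type.Co2El.el 1 * (Cfsg.Agent.Co2Type.Co2El.el 0 * 1)))
    rw [mul_one]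
  rw [im_def, h, word_im (c := cu) (by decide) (by decide +kernel)]
  exact vec_tet (by decide +kernel)

theorem g0_mul : g0 * g0 = g0⁻¹ := by
  rw [eq_inv_iff_mul_eq_one]
  have := g0_pow
  rw [pow_succ, pow_two] at this
  exact this

theorem g0i_mul : g0⁻¹ * g0⁻¹ = g0 := by
  rw [← mul_inv_rev, g0_mul, inv_inv]

theorem smul_u2 : toCo0 g0 • im g0 = im g0⁻¹ := by
  rw [im_def, im_def, ← mul_smul, ← map_mul, g0_mul]

theorem smul_u : toCo0 g0 • im g0⁻¹ = e8 none := by
  rw [im_def, ← mul_smul, ← map_mul, mul_inv_cancel, map_one, one_smul]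

theorem ismul_u2 : toCo0 g0⁻¹ • im g0 = e8 none := by
  rw [im_def, ← mul_smul, ← map_mul, inv_mul_cancel, map_one, one_smul]

theorem ismul_u : toCo0 g0⁻¹ • im g0⁻¹ = im g0 := by
  rw [im_def, im_def, ← mul_smul, ← map_mul, g0i_mul]

/-- the image of `im g₀` under `ge m` -/
theorem ge_u2 {m : ℕ} (hm : inE m = true) : toCo0 (ge m) • im g0 =
    if m.testBit 4 then (if m.testBit 10 then op (im g0) else im g0⁻¹)
    else (if m.testBit 10 then op (im g0⁻¹) else im g0) := by
  apply Subtype.ext
  rw [ge_tet hm im_g0]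
  cases m.testBit 4 <;> cases m.testBit 10
  · simp only [Bool.false_eq_true, if_false]
    rw [im_g0]
  · simp only [Bool.false_eq_true, if_false, if_true]
    rw [coe_op im_g0i]; norm_num
  · simp only [Bool.false_eq_true, if_false, if_true]
    rw [im_g0i]; norm_num
  · simp only [if_true]
    rw [coe_op im_g0]; norm_num

/-- the image of `im g₀⁻¹` under `ge m` -/
theorem ge_u {m : ℕ} (hm : inE m = true) : toCo0 (ge m) • im g0⁻¹ =
    if m.testBit 4 then (if m.testBit 10 then op (im g0⁻¹) else im g0)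
    else (if m.testBit 10 then op (im g0) else im g0⁻¹) := by
  apply Subtype.ext
  rw [ge_tet hm im_g0i]
  cases m.testBit 4 <;> cases m.testBit 10
  · simp only [Bool.false_eq_true, if_false]
    rw [im_g0i]
  · simp only [Bool.false_eq_true, if_false, if_true]
    rw [coe_op im_g0]; norm_num
  · simp only [Bool.false_eq_true, if_false, if_true]
    rw [im_g0]
  · simp only [if_true]
    rw [coe_op im_g0i]; norm_num

theorem mem_N_of {g : Spor.Co2} (h : Fr (im g)) : g ∈ N := mem_N_iff.2 h

theorem not_fr {v : leechLattice} {a b c d : ℤ} (hv : (v : GolayPt → ℤ) = tet a b c d) (hb : b ≠ 0) : ¬ Fr v := by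
  rintro (rfl | rfl)
  · have h1 := congrFun (hv.symm.trans coe_e8) (pt 4)
    rw [tet_four, tet_four] at h1
    exact hb h1
  · have h1 := congrFun (hv.symm.trans coe_e8') (pt 4)
    rw [tet_four, tet_four] at h1
    exact hb h1

theorem g0_not : g0 ∉ N := fun h => not_fr im_g0 (by norm_num) (mem_N_iff.1 h)

theorem g0i_not : g0⁻¹ ∉ N := fun h => g0_not (by have := N.inv_mem h; rwa [inv_inv] at this)

theorem im_mul (a b : Spor.Co2) : im (a * b) = toCo0 a • im b := by
  rw [im_def, im_def, map_mul, mul_smul]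

theorem eq_A {m : ℕ} (hm : inE m = true) (h : m.testBit 4 = m.testBit 10) : g0⁻¹ * ge m * g0 ∈ N := by
  apply mem_N_of
  rw [mul_assoc, im_mul, im_mul, ge_u2 hm, ← h]
  cases m.testBit 4
  · simp only [Bool.false_eq_true, if_false]
    rw [ismul_u2]; exact fr_e8
  · simp only [if_true]
    rw [op_smul, ismul_u2]; exact fr_op

theorem eq_B {m : ℕ} (hm : inE m = true) (h : m.testBit 4 = m.testBit 10) : g0 * ge m * g0⁻¹ ∈ N := by
  apply mem_N_of
  rw [mul_assoc, im_mul, im_mul, ge_u hm, ← h]
  cases m.testBit 4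
  · simp only [Bool.false_eq_true, if_false]
    rw [smul_u]; exact fr_e8
  · simp only [if_true]
    rw [op_smul, smul_u]; exact fr_op

theorem ne_A {m : ℕ} (hm : inE m = true) (h : m.testBit 4 ≠ m.testBit 10) : g0 * ge m * g0 ∈ N := by
  apply mem_N_of
  rw [mul_assoc, im_mul, im_mul, ge_u2 hm]
  revert h
  cases m.testBit 4 <;> cases m.testBit 10 <;> intro h
  · exact absurd rfl h
  · simp only [Bool.false_eq_true, if_false, if_true]
    rw [op_smul, smul_u]; exact fr_op
  · simp only [Bool.false_eq_true, if_false, if_true]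
    rw [smul_u]; exact fr_e8
  · exact absurd rfl h

theorem ne_B {m : ℕ} (hm : inE m = true) (h : m.testBit 4 ≠ m.testBit 10) : g0⁻¹ * ge m * g0⁻¹ ∈ N := by
  apply mem_N_of
  rw [mul_assoc, im_mul, im_mul, ge_u hm]
  revert h
  cases m.testBit 4 <;> cases m.testBit 10 <;> intro h
  · exact absurd rfl h
  · simp only [Bool.false_eq_true, if_false, if_true]
    rw [op_smul, ismul_u2]; exact fr_op
  · simp only [Bool.false_eq_true, if_false, if_true]
    rw [ismul_u2]; exact fr_e8
  · exact absurd rfl h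

theorem ne_C {m : ℕ} (hm : inE m = true) (h : m.testBit 4 ≠ m.testBit 10) : g0⁻¹ * ge m * g0 ∉ N := by
  intro hN
  have h1 := mem_N_iff.1 hN
  rw [mul_assoc, im_mul, im_mul, ge_u2 hm] at h1
  revert h1 h
  cases m.testBit 4 <;> cases m.testBit 10 <;> intro h h1
  · exact h rfl
  · simp only [Bool.false_eq_true, if_false, if_true] at h1
    rw [op_smul, ismul_u] at h1
    exact not_fr (coe_op im_g0) (by norm_num) h1
  · simp only [Bool.false_eq_true, if_false, if_true] at h1
    rw [ismul_u] at h1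
    exact not_fr im_g0 (by norm_num) h1
  · exact h rfl

/-! ### the parabolic -/

/-- the three cosets -/
def S3 : Set (Spor.Co2 ⧸ N) :=
  {((1 : Spor.Co2) : Spor.Co2 ⧸ N), (g0 : Spor.Co2 ⧸ N), ((g0⁻¹ : Spor.Co2) : Spor.Co2 ⧸ N)}

theorem S3_fin : S3.Finite := Set.toFinite _

open scoped Pointwise in
/-- the parabolic -/
def PP : Subgroup Spor.Co2 := MulAction.stabilizer Spor.Co2 S3

theorem mem_PP {g : Spor.Co2} : g ∈ PP ↔ ∀ ⦃b⦄, b ∈ S3 → g • b ∈ S3 := MulAction.mem_stabilizer_set' S3_fin

theorem mk_eq {a b : Spor.Co2} : (a : Spor.Co2 ⧸ N) = (b : Spor.Co2 ⧸ N) ↔ a⁻¹ * b ∈ N := QuotientGroup.eq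

theorem mk_one_mem : ((1 : Spor.Co2) : Spor.Co2 ⧸ N) ∈ S3 := Or.inl rfl

theorem mk_g0_mem : (g0 : Spor.Co2 ⧸ N) ∈ S3 := Or.inr (Or.inl rfl)

theorem mk_g0i_mem : ((g0⁻¹ : Spor.Co2) : Spor.Co2 ⧸ N) ∈ S3 := Or.inr (Or.inr rfl)

theorem smul_mk (a b : Spor.Co2) : a • (b : Spor.Co2 ⧸ N) = ((a * b : Spor.Co2) : Spor.Co2 ⧸ N) := rfl

theorem g0_mem : g0 ∈ PP := by
  rw [mem_PP]
  rintro b (rfl | rfl | rfl)
  · rw [smul_mk, mul_one]; exact mk_g0_mem
  · rw [smul_mk, g0_mul]; exact mk_g0i_mem
  · rw [smul_mk, mul_inv_cancel]; exact mk_one_mem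

theorem fix_of {g b : Spor.Co2} (h : b⁻¹ * g * b ∈ N) : g • (b : Spor.Co2 ⧸ N) = (b : Spor.Co2 ⧸ N) := by
  rw [smul_mk, eq_comm, mk_eq, ← mul_assoc]; exact h

theorem Xf_fix {m : ℕ} (hm : inE m = true) (h : m.testBit 4 = m.testBit 10) {b : Spor.Co2 ⧸ N} (hb : b ∈ S3) :
    ge m • b = b := by
  rcases hb with rfl | rfl | rfl
  · exact fix_of (by rw [inv_one, one_mul, mul_one]; exact E_le_N (ge_mem hm))
  · exact fix_of (eq_A hm h)
  · exact fix_of (by rw [inv_inv]; exact eq_B hm h)

/-- **`E ≤ P`** -/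
theorem X_P : E ≤ PP := by
  rintro _ ⟨m, hm, rfl⟩
  show ge m ∈ PP
  rw [mem_PP]
  by_cases h : m.testBit 4 = m.testBit 10
  · intro b hb
    rw [Xf_fix hm h hb]; exact hb
  · rintro b (rfl | rfl | rfl)
    · rw [fix_of (by rw [inv_one, one_mul, mul_one]; exact E_le_N (ge_mem hm))]
      exact mk_one_mem
    · have : ge m • (g0 : Spor.Co2 ⧸ N) = ((g0⁻¹ : Spor.Co2) : Spor.Co2 ⧸ N) := by
        rw [smul_mk, eq_comm, mk_eq, inv_inv, ← mul_assoc]; exact ne_A hm h
      rw [this]; exact mk_g0i_mem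
    · have : ge m • ((g0⁻¹ : Spor.Co2) : Spor.Co2 ⧸ N) = (g0 : Spor.Co2 ⧸ N) := by
        rw [smul_mk, eq_comm, mk_eq, ← mul_assoc]; exact ne_B hm h
      rw [this]; exact mk_g0_mem

theorem ncard_S3 : S3.ncard = 3 := by
  have h1 : ((1 : Spor.Co2) : Spor.Co2 ⧸ N) ≠ (g0 : Spor.Co2 ⧸ N) := by
    rw [Ne, mk_eq, inv_one, one_mul]; exact g0_not
  have h2 : ((1 : Spor.Co2) : Spor.Co2 ⧸ N) ≠ ((g0⁻¹ : Spor.Co2) : Spor.Co2 ⧸ N) := by
    rw [Ne, mk_eq, inv_one, one_mul]; exact g0i_not
  have h3 : (g0 : Spor.Co2 ⧸ N) ≠ ((g0⁻¹ : Spor.Co2) : Spor.Co2 ⧸ N) := by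
    rw [Ne, mk_eq, g0i_mul]; exact g0_not
  exact Set.ncard_eq_three.2 ⟨_, _, _, h1, h2, h3, rfl⟩

/-- **`|P : P ∩ N| = 3`** -/
theorem P_ind : (PP ⊓ normalizer (E : Set Spor.Co2)).relIndex PP = 3 := by
  rw [inf_relIndex_left]
  have h1 : MulAction.stabilizer PP ((1 : Spor.Co2) : Spor.Co2 ⧸ N) = N.subgroupOf PP := by
    ext g
    rw [MulAction.mem_stabilizer_iff, Subgroup.mem_subgroupOf]
    show (g : Spor.Co2) • ((1 : Spor.Co2) : Spor.Co2 ⧸ N) = _ ↔ _
    rw [smul_mk, eq_comm, mk_eq, inv_one, one_mul, mul_one]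
  have h2 : MulAction.orbit PP ((1 : Spor.Co2) : Spor.Co2 ⧸ N) = S3 := by
    apply Set.Subset.antisymm
    · rintro _ ⟨g, rfl⟩
      exact mem_PP.1 g.2 mk_one_mem
    · rintro b (rfl | rfl | rfl)
      · exact ⟨1, one_smul _ _⟩
      · refine ⟨⟨g0, g0_mem⟩, ?_⟩
        show g0 • ((1 : Spor.Co2) : Spor.Co2 ⧸ N) = _
        rw [smul_mk, mul_one]
      · refine ⟨⟨g0⁻¹, PP.inv_mem g0_mem⟩, ?_⟩
        show g0⁻¹ • ((1 : Spor.Co2) : Spor.Co2 ⧸ N) = _
        rw [smul_mk, mul_one]
  have h3 := MulAction.index_stabilizer PP ((1 : Spor.Co2) : Spor.Co2 ⧸ N)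
  rw [h1, h2, ncard_S3] at h3
  exact h3

/-- **`Ξ_f` is the kernel of `E` on the three cosets.** -/
theorem Xf_def (g : Spor.Co2) : g ∈ Xf ↔ g ∈ E ∧ ∀ p ∈ PP, p * g * p⁻¹ ∈ normalizer (E : Set Spor.Co2) := by
  constructor
  · rintro ⟨m, hm, h, rfl⟩
    refine ⟨ge_mem hm, fun p hp => ?_⟩
    have h1 : p⁻¹ • ((1 : Spor.Co2) : Spor.Co2 ⧸ N) ∈ S3 := mem_PP.1 (PP.inv_mem hp) mk_one_mem
    have h2 := Xf_fix hm h h1
    rw [smul_mk, smul_mk, mul_one, eq_comm, mk_eq, inv_inv, ← mul_assoc] at h2
    exact h2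
  · rintro ⟨⟨m, hm, rfl⟩, h⟩
    refine ⟨m, hm, ?_, rfl⟩
    by_contra hc
    have h1 := h g0⁻¹ (PP.inv_mem g0_mem)
    rw [inv_inv] at h1
    exact ne_C hm hc h1

end Cfsg.Agent.Omega.CoTwoK.Sextet

end

section


/-!
# The 22 hyperplanes `Xb j` of `E` (helper962, row `Co₂` of EH3)

`E ≤ Spor.Co2` is the group of the sign changes on the code words avoiding the points of index 0 and 23;
`Xb j` the subgroup of the words avoiding `j`.  Let `N` be a subgroup all of whose elements are monomial (`mo2 m Q`) and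
which contains all monomial elements (`N = N(E)`).
-/

set_option autoImplicit false

namespace Cfsg.Agent.Omega.CoTwoK.Point

open Cfsg Cfsg.Agent.SporadicA.GolayBase Cfsg.Agent.SporadicA.GolayPerm
open Cfsg.Agent.SporadicStructure.M24El
open Cfsg.Agent.Co2Type.Mono Cfsg.Agent.Co2Type.TGroup Cfsg.Agent.Co2Type.TData Cfsg.Agent.Co2Type.FactsD
open scoped Pointwise

/-! ### words and permutations -/

theorem ge_inj {m n : ℕ} (hm : inE m = true) (hn : inE n = true) (h : ge m = ge n) : m = n :=
  (mo2_inj hm hn okP_idP okP_idP idP_lt idP_lt h).1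

theorem conj_ge {m n Q : ℕ} (hm : inE m = true) (hn : inE n = true) (hQ : okP Q = true)
    (h : Q < 2 ^ 120) : mo2 m Q * ge n * (mo2 m Q)⁻¹ = ge (pimg Q n) := by
  unfold ge
  rw [mo2_conj_E hm hn hQ h, mul_inv_cancel_right]

/-- `okP` permutations preserve the points `1, ..., 22` -/
theorem papp_range {Q : ℕ} (hQ : okP Q = true) {j : ℕ} (h1 : 1 ≤ j) (h2 : j ≤ 22) :
    1 ≤ papp Q j ∧ papp Q j ≤ 22 := by
  have h := okP_iff.1 hQ
  have hp := isPerm_of_ok h.1
  have hlt := papp_lt hp (show j < 24 by omega)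
  have e0 : papp Q j ≠ papp Q 0 := fun e => by
    have := papp_injOn hp (by omega) (by norm_num) e; omega
  have e23 : papp Q j ≠ papp Q 23 := fun e => by
    have := papp_injOn hp (by omega) (by norm_num) e; omega
  rcases h.2 with ⟨h3, h4⟩ | ⟨h3, h4⟩ <;> rw [h3] at e0 <;> rw [h4] at e23 <;> omega

/-- an `okP` permutation fixing the points `1, ..., 22` is the identity -/
theorem eq_idP {Q : ℕ} (hQ : okP Q = true) (hlt : Q < 2 ^ 120)
    (h : ∀ j, 1 ≤ j → j ≤ 22 → papp Q j = j) : Q = idP := by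
  have hk := okP_iff.1 hQ
  have hp := isPerm_of_ok hk.1
  have hid : ∀ i, i < 24 → papp idP i = i := by decide +kernel
  rcases hk.2 with ⟨h0, h23⟩ | ⟨h0, h23⟩
  · apply eq_of_papp 24 Q idP (lt_of_lt_of_eq hlt (by norm_num)) (lt_of_lt_of_eq idP_lt (by norm_num))
    intro i hi
    rw [hid i hi]
    rcases Nat.eq_zero_or_pos i with rfl | h1
    · exact h0
    · by_cases h2 : i ≤ 22
      · exact h i h1 h2
      · have : i = 23 := by omega
        subst this
        exact h23
  · exfalso
    -- a transposition does not preserve the code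
    have hc : isCode 13938692 = true := by decide +kernel
    have e : pimg Q 13938692 = 5550085 := by
      unfold pimg
      rw [h0, h23, h 1 (by norm_num) (by norm_num), h 2 (by norm_num) (by norm_num),
        h 3 (by norm_num) (by norm_num), h 4 (by norm_num) (by norm_num),
        h 5 (by norm_num) (by norm_num), h 6 (by norm_num) (by norm_num),
        h 7 (by norm_num) (by norm_num), h 8 (by norm_num) (by norm_num),
        h 9 (by norm_num) (by norm_num), h 10 (by norm_num) (by norm_num),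
        h 11 (by norm_num) (by norm_num), h 12 (by norm_num) (by norm_num),
        h 13 (by norm_num) (by norm_num), h 14 (by norm_num) (by norm_num),
        h 15 (by norm_num) (by norm_num), h 16 (by norm_num) (by norm_num),
        h 17 (by norm_num) (by norm_num), h 18 (by norm_num) (by norm_num),
        h 19 (by norm_num) (by norm_num), h 20 (by norm_num) (by norm_num),
        h 21 (by norm_num) (by norm_num), h 22 (by norm_num) (by norm_num)]
      decide +kernel
    have h1 := isCode_pimg hk.1 hc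
    rw [e] at h1
    exact absurd h1 (by decide +kernel)

/-- inverse -/
theorem exists_inv' {Q : ℕ} (hQ : okP Q = true) : ∃ Q', okP Q' = true ∧ Q' < 2 ^ 120 ∧
    pcomp Q Q' = idP ∧ pcomp Q' Q = idP := by
  obtain ⟨Q', h1, h2, h3⟩ := exists_el (el Q)⁻¹
  have hk := okP_iff.1 hQ
  have hid : ∀ i, i < 24 → papp idP i = i := by decide +kernel
  have e1 : pcomp Q Q' = idP := by
    apply el_inj (ok_pcomp hk.1 h1) ok_idP (pcomp_lt _ _) idP_lt
    rw [el_pcomp hk.1 h1, h3, mul_inv_cancel, el_idP]
  have e2 : pcomp Q' Q = idP := by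
    apply el_inj (ok_pcomp h1 hk.1) ok_idP (pcomp_lt _ _) idP_lt
    rw [el_pcomp h1 hk.1, h3, inv_mul_cancel, el_idP]
  refine ⟨Q', okP_iff.2 ⟨h1, ?_⟩, h2, e1, e2⟩
  have k0 : papp Q' (papp Q 0) = 0 := by
    rw [← papp_pcomp Q' Q (by norm_num), e2]; exact hid 0 (by norm_num)
  have k23 : papp Q' (papp Q 23) = 23 := by
    rw [← papp_pcomp Q' Q (by norm_num), e2]; exact hid 23 (by norm_num)
  rcases hk.2 with ⟨h4, h5⟩ | ⟨h4, h5⟩
  · rw [h4] at k0
    rw [h5] at k23
    exact Or.inl ⟨k0, k23⟩
  · rw [h4] at k0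
    rw [h5] at k23
    exact Or.inr ⟨k23, k0⟩

theorem pimg_idP' {n : ℕ} (hn : isCode n = true) : pimg idP n = n := by
  have hp := isPerm_of_ok ok_idP
  have hid : ∀ i, i < 24 → papp idP i = i := by decide +kernel
  apply eq_of_testBit_idx (pimg_lt hp _) (isCode_lt hn)
  intro i
  have h1 := testBit_pimg_papp hp n (idx_lt i)
  rwa [hid _ (idx_lt i)] at h1

theorem exists_pre {Q n : ℕ} (hQ : okP Q = true) (hn : inE n = true) :
    ∃ n', inE n' = true ∧ pimg Q n' = n := by
  obtain ⟨Q', h1, h2, h3, h4⟩ := exists_inv' hQ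
  refine ⟨pimg Q' n, inE_pimg h1 hn, ?_⟩
  rw [← pimg_pcomp (isPerm_of_ok (ok_of_okP hQ)) (isPerm_of_ok (ok_of_okP h1)), h3,
    pimg_idP' (isCode_of_inE hn)]

/-! ### the hyperplanes -/

/-- the words avoiding the point `j` -/
def Xb (j : ℕ) : Subgroup Spor.Co2 where
  carrier := {g | ∃ m, inE m = true ∧ m.testBit j = false ∧ g = ge m}
  one_mem' := ⟨0, inE_zero, Nat.zero_testBit j, ge_zero.symm⟩
  mul_mem' := by
    rintro _ _ ⟨m, hm, hm', rfl⟩ ⟨n, hn, hn', rfl⟩
    exact ⟨_, inE_xor hm hn, by rw [Nat.testBit_xor, hm', hn']; rfl, ge_mul hm hn⟩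
  inv_mem' := by
    rintro _ ⟨m, hm, hm', rfl⟩
    exact ⟨m, hm, hm', inv_eq_of_mul_eq_one_left (ge_sq hm)⟩

theorem mem_Xb {j : ℕ} {g : Spor.Co2} :
    g ∈ Xb j ↔ ∃ m, inE m = true ∧ m.testBit j = false ∧ g = ge m := Iff.rfl

theorem ge_mem_Xb {j m : ℕ} (hm : inE m = true) : ge m ∈ Xb j ↔ m.testBit j = false := by
  constructor
  · rintro ⟨n, hn, hnj, h⟩
    rw [ge_inj hm hn h]
    exact hnj
  · intro h
    exact ⟨m, hm, h, rfl⟩

theorem Xb_le (j : ℕ) : Xb j ≤ E := by
  rintro _ ⟨m, hm, _, rfl⟩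
  exact ge_mem hm

/-- words separating the points -/
def sepW : List ℕ := [229096, 3981774, 4521254, 8077824, 733006, 7780768, 2168036, 1635050, 351362, 198058, 10558,
  252432, 21116]

theorem sepW_ok : (sepW.all fun m => inE m) = true := by decide +kernel

theorem sepW_sep : ((List.range' 1 22).all fun k => (List.range' 1 22).all fun l =>
    Nat.beq k l || sepW.any fun m => m.testBit k && !m.testBit l) = true := by decide +kernel

theorem sepW_sep4 : ((List.range' 1 22).all fun k => (List.range' 1 22).all fun l =>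
    Nat.beq k l || Nat.beq k 4 || sepW.any fun m => m.testBit k && !m.testBit l && !m.testBit 4) = true := by
  decide +kernel

theorem mem_range22 {k : ℕ} (h1 : 1 ≤ k) (h2 : k ≤ 22) : k ∈ List.range' 1 22 := by
  rw [List.mem_range'_1]; omega

theorem exists_sep {k l : ℕ} (hk1 : 1 ≤ k) (hk2 : k ≤ 22) (hl1 : 1 ≤ l) (hl2 : l ≤ 22) (h : k ≠ l) :
    ∃ m, inE m = true ∧ m.testBit k = true ∧ m.testBit l = false := by
  have h1 := List.all_eq_true.1 sepW_sep k (mem_range22 hk1 hk2)
  have h2 := List.all_eq_true.1 h1 l (mem_range22 hl1 hl2)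
  rw [Bool.or_eq_true, List.any_eq_true] at h2
  rcases h2 with h2 | ⟨m, hm, h2⟩
  · exact absurd (Nat.eq_of_beq_eq_true h2) h
  · rw [Bool.and_eq_true, Bool.not_eq_true'] at h2
    exact ⟨m, List.all_eq_true.1 sepW_ok m hm, h2.1, h2.2⟩

theorem exists_sep4 {k l : ℕ} (hk1 : 1 ≤ k) (hk2 : k ≤ 22) (hl1 : 1 ≤ l) (hl2 : l ≤ 22) (h : k ≠ l)
    (hk4 : k ≠ 4) : ∃ m, inE m = true ∧ m.testBit k = true ∧ m.testBit l = false ∧ m.testBit 4 = false := by
  have h1 := List.all_eq_true.1 sepW_sep4 k (mem_range22 hk1 hk2)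
  have h2 := List.all_eq_true.1 h1 l (mem_range22 hl1 hl2)
  rw [Bool.or_eq_true, Bool.or_eq_true, List.any_eq_true] at h2
  rcases h2 with (h2 | h2) | ⟨m, hm, h2⟩
  · exact absurd (Nat.eq_of_beq_eq_true h2) h
  · exact absurd (Nat.eq_of_beq_eq_true h2) hk4
  · rw [Bool.and_eq_true, Bool.and_eq_true, Bool.not_eq_true', Bool.not_eq_true'] at h2
    exact ⟨m, List.all_eq_true.1 sepW_ok m hm, h2.1.1, h2.1.2, h2.2⟩

theorem Xb_inj {k l : ℕ} (hk1 : 1 ≤ k) (hk2 : k ≤ 22) (hl1 : 1 ≤ l) (hl2 : l ≤ 22) (h : Xb k = Xb l) :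
    k = l := by
  by_contra hne
  obtain ⟨m, hm, h1, h2⟩ := exists_sep hk1 hk2 hl1 hl2 hne
  have h3 : ge m ∈ Xb k := h ▸ (ge_mem_Xb hm).2 h2
  rw [ge_mem_Xb hm, h1] at h3
  exact absurd h3 (by decide)

/-- conjugation -/
theorem conj_Xb {m Q : ℕ} (hm : inE m = true) (hQ : okP Q = true) (h : Q < 2 ^ 120) {j : ℕ}
    (hj : j < 24) : MulAut.conj (mo2 m Q) • Xb j = Xb (papp Q j) := by
  have hp := isPerm_of_ok (ok_of_okP hQ)
  have key : ∀ n, inE n = true → n.testBit j = false → mo2 m Q * ge n * (mo2 m Q)⁻¹ ∈ Xb (papp Q j) := by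
    intro n hn hnj
    rw [conj_ge hm hn hQ h]
    refine ⟨_, inE_pimg hQ hn, ?_, rfl⟩
    rw [testBit_pimg_papp hp n hj, hnj]
  ext g
  rw [Subgroup.mem_smul_pointwise_iff_exists]
  constructor
  · rintro ⟨x, ⟨n, hn, hnj, rfl⟩, rfl⟩
    exact key n hn hnj
  · rintro ⟨n, hn, hnj, rfl⟩
    obtain ⟨n', hn', rfl⟩ := exists_pre hQ hn
    refine ⟨ge n', (ge_mem_Xb hn').2 ?_, ?_⟩
    · rwa [testBit_pimg_papp hp n' hj] at hnj
    · exact conj_ge hm hn' hQ h

end Cfsg.Agent.Omega.CoTwoK.Point

end

section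


/-!
# The fields `pi_ind`, `pi_two`, `pi_cen` (helper962, row `Co₂` of EH3)

`N` is a subgroup of `Spor.Co2` consisting of all monomial elements (it is the normaliser of `E`); `Xb 4` the words
avoiding the point of index 4.
-/

set_option autoImplicit false

namespace Cfsg.Agent.Omega.CoTwoK.Point

open Cfsg Cfsg.Agent.SporadicA.GolayBase Cfsg.Agent.SporadicA.GolayPerm
open Cfsg.Agent.SporadicStructure.M24El
open Cfsg.Agent.Co2Type.Mono Cfsg.Agent.Co2Type.TGroup Cfsg.Agent.Co2Type.TData Cfsg.Agent.Co2Type.FactsD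
open Subgroup
open scoped Pointwise

/-- `N` is the group of the monomial elements -/
structure NN (N : Subgroup Spor.Co2) : Prop where
  ex : ∀ g ∈ N, ∃ m Q, inE m = true ∧ okP Q = true ∧ Q < 2 ^ 120 ∧ g = mo2 m Q
  mem : ∀ m Q, inE m = true → okP Q = true → Q < 2 ^ 120 → mo2 m Q ∈ N

theorem mem_norm_iff {G : Type*} [Group G] {S : Subgroup G} {g : G} :
    g ∈ normalizer (S : Set G) ↔ MulAut.conj g • S = S := by
  rw [mem_normalizer_iff]
  constructor
  · intro h
    ext x
    rw [mem_pointwise_smul_iff_inv_smul_mem, ← map_inv, MulAut.smul_def, MulAut.conj_apply, inv_inv]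
    rw [h (g⁻¹ * x * g)]
    have : g * (g⁻¹ * x * g) * g⁻¹ = x := by group
    rw [this]
  · intro h x
    constructor
    · intro hx
      rw [← h, ← MulAut.conj_apply, ← MulAut.smul_def]
      exact smul_mem_pointwise_smul _ _ _ hx
    · intro hx
      rw [← h, mem_pointwise_smul_iff_inv_smul_mem, ← map_inv, MulAut.smul_def, MulAut.conj_apply,
        inv_inv] at hx
      have : g⁻¹ * (g * x * g⁻¹) * g = x := by group
      rwa [this] at hx

/-- transversal: the permutations `4 ↦ j` -/
def tr4 : List ℕ := [7277987393696714009175503439778007, 19858542701654297413754757877151895,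
  983435041980113810609016900712224800, 984818244535754528103549039458486304, 14609061766979824677248677493486903,
  966352454537647764845276703660590560, 25559010966216279167837432823695831, 963234863385194148140160499873009952,
  959771647323463422270554298816072352, 17333319061003690702042180000187671, 13550039064159020506630624430901911,
  4302764333039848141261571709192375, 962621403492046636599529583312251936, 17550208603580013488347677852773079,
  962304573221937102166180706249153792, 25502201696235843599827270015207639, 980961498779594295452722676802783520,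
  11258300484524372673375182514110615, 20912972241735253688986190149658679, 29171931033524210258733142741469239,
  24846825968022034463888068564044087, 27804986926824354375361384845197623]

/-- transversal: the permutations `4 ↦ 4`, `1 ↦ j` -/
def tr1 : List ℕ := [984818244535754528103549039458486304, 978315899066723276807191484822800448,
  8328035679014027186878168655214711, 2980583404992854596143067718461623, 7019481630015051901787930865741015,
  967984790385585480403795137255581920, 25541498956642104225835441434478871, 18622127190325874496707935820960055,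
  23625970832601598737205494984980823, 19692009057563387540525814735493495, 29338072880504655245620957050950039,
  962248796373525125778648362459187616, 25525039304699397647261516727159255, 28155295446494017472038345197900279,
  7126775298054564099936913148951063, 6789601320766654097514672421034551, 17741376976819940535734027634284119,
  13569660762458545520699432453217911, 8439509237928437100764944144645783, 15711977271039919504307453255790263,
  17700815212427297823120674055832279]

theorem tr4_ok : ((List.range' 1 22).all fun j => tr4.any fun P => okP P && Nat.blt P (2 ^ 120) &&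
    Nat.beq (papp P 4) j) = true := by decide +kernel

theorem tr1_ok : ((List.range' 1 22).all fun j => Nat.beq j 4 || tr1.any fun P => okP P && Nat.blt P (2 ^ 120) &&
    Nat.beq (papp P 4) 4 && Nat.beq (papp P 1) j) = true := by decide +kernel

theorem exists_tr4 {j : ℕ} (h1 : 1 ≤ j) (h2 : j ≤ 22) :
    ∃ P, okP P = true ∧ P < 2 ^ 120 ∧ papp P 4 = j := by
  have h := List.all_eq_true.1 tr4_ok j (mem_range22 h1 h2)
  rw [List.any_eq_true] at h
  obtain ⟨P, _, h⟩ := h
  rw [Bool.and_eq_true, Bool.and_eq_true, Nat.blt_eq] at h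
  exact ⟨P, h.1.1, h.1.2, Nat.eq_of_beq_eq_true h.2⟩

theorem exists_tr1 {j : ℕ} (h1 : 1 ≤ j) (h2 : j ≤ 22) (h4 : j ≠ 4) :
    ∃ P, okP P = true ∧ P < 2 ^ 120 ∧ papp P 4 = 4 ∧ papp P 1 = j := by
  have h := List.all_eq_true.1 tr1_ok j (mem_range22 h1 h2)
  rw [Bool.or_eq_true, List.any_eq_true] at h
  rcases h with h | ⟨P, _, h⟩
  · exact absurd (Nat.eq_of_beq_eq_true h) h4
  · rw [Bool.and_eq_true, Bool.and_eq_true, Bool.and_eq_true, Nat.blt_eq] at h
    exact ⟨P, h.1.1.1, h.1.1.2, Nat.eq_of_beq_eq_true h.1.2, Nat.eq_of_beq_eq_true h.2⟩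

variable {N : Subgroup Spor.Co2}

theorem stab_iff {m Q j : ℕ} (hm : inE m = true) (hQ : okP Q = true) (h : Q < 2 ^ 120) (h1 : 1 ≤ j)
    (h2 : j ≤ 22) : mo2 m Q ∈ normalizer (Xb j : Set Spor.Co2) ↔ papp Q j = j := by
  rw [mem_norm_iff, conj_Xb hm hQ h (by omega)]
  constructor
  · intro e
    have := papp_range hQ h1 h2
    exact Xb_inj this.1 this.2 h1 h2 e
  · intro e
    rw [e]

/-- **`pi_ind`** -/
theorem index22 (h : NN N) : (N ⊓ normalizer (Xb 4 : Set Spor.Co2)).relIndex N = 22 := by
  let _ : MulAction N (Subgroup Spor.Co2) := MulAction.compHom _ (MulAut.conj.comp N.subtype)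
  have hsm : ∀ (g : N) (S : Subgroup Spor.Co2), g • S = MulAut.conj (g : Spor.Co2) • S := fun g S => rfl
  have h1 : MulAction.stabilizer N (Xb 4) = (N ⊓ normalizer (Xb 4 : Set Spor.Co2)).subgroupOf N := by
    ext g
    rw [MulAction.mem_stabilizer_iff, mem_subgroupOf, mem_inf, mem_norm_iff, hsm]
    exact ⟨fun h => ⟨g.2, h⟩, fun h => h.2⟩
  have h2 : MulAction.orbit N (Xb 4) = Xb '' (Set.Icc 1 22) := by
    ext S
    constructor
    · rintro ⟨g, rfl⟩
      obtain ⟨m, Q, hm, hQ, hlt, hg⟩ := h.ex g g.2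
      refine ⟨papp Q 4, papp_range hQ (by norm_num) (by norm_num), ?_⟩
      change Xb (papp Q 4) = MulAut.conj (g : Spor.Co2) • Xb 4
      rw [hg, conj_Xb hm hQ hlt (by norm_num)]
    · rintro ⟨j, hj, rfl⟩
      obtain ⟨P, hP, hlt, e⟩ := exists_tr4 hj.1 hj.2
      refine ⟨⟨mo2 0 P, h.mem 0 P inE_zero hP hlt⟩, ?_⟩
      change MulAut.conj (mo2 0 P) • Xb 4 = Xb j
      rw [conj_Xb inE_zero hP hlt (by norm_num), e]
  have h3 : (Xb '' (Set.Icc 1 22)).ncard = 22 := by
    rw [Set.InjOn.ncard_image]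
    · rw [← Finset.coe_Icc, Set.ncard_coe_finset]; rfl
    · intro j hj k hk e
      exact Xb_inj hj.1 hj.2 hk.1 hk.2 e
  rw [relIndex, ← h1, MulAction.index_stabilizer, h2, h3]

/-- **`pi_cen`** -/
theorem cen (h : NN N) : N ⊓ centralizer (Xb 4 : Set Spor.Co2) ≤ E := by
  rintro g ⟨hg, hc⟩
  obtain ⟨m, Q, hm, hQ, hlt, rfl⟩ := h.ex g hg
  have hp := isPerm_of_ok (ok_of_okP hQ)
  have h1 : ∀ n, inE n = true → n.testBit 4 = false → pimg Q n = n := by
    intro n hn hn4
    have h2 := mem_centralizer_iff.1 hc (ge n) ((ge_mem_Xb hn).2 hn4)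
    have h3 := conj_ge hm hn hQ hlt
    rw [← h2, mul_inv_cancel_right] at h3
    exact (ge_inj hn (inE_pimg hQ hn) h3).symm
  have h2 : ∀ k, 1 ≤ k → k ≤ 22 → k ≠ 4 → papp Q k = k := by
    intro k hk1 hk2 hk4
    by_contra hne
    have hr := papp_range hQ hk1 hk2
    obtain ⟨n, hn, b1, b2, b3⟩ := exists_sep4 hk1 hk2 hr.1 hr.2 (Ne.symm hne) hk4
    have h3 := testBit_pimg_papp hp n (show k < 24 by omega)
    rw [h1 n hn b3, b1, b2] at h3
    exact absurd h3 (by decide)
  have h4 : papp Q 4 = 4 := by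
    by_contra hne
    have hr := papp_range hQ (show 1 ≤ 4 by norm_num) (by norm_num)
    have h5 := h2 (papp Q 4) hr.1 hr.2 hne
    exact hne (papp_injOn hp (by omega) (by norm_num) h5)
  have h5 : Q = idP := eq_idP hQ hlt fun j hj1 hj2 => by
    by_cases hj : j = 4
    · rw [hj, h4]
    · exact h2 j hj1 hj2 hj
  rw [h5]
  exact ge_mem hm

/-- **`pi_two`** -/
theorem two (h : NN N) (U : Subgroup Spor.Co2) (hU : U ≤ N ⊓ normalizer (Xb 4 : Set Spor.Co2))
    (h2 : IsPGroup 2 U) (hn : N ⊓ normalizer (Xb 4 : Set Spor.Co2) ≤ normalizer (U : Set Spor.Co2)) :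
    U ≤ E := by
  set Ω : Set (Subgroup Spor.Co2) := Xb '' {j | 1 ≤ j ∧ j ≤ 22 ∧ j ≠ 4} with hΩ
  have hact : ∀ u ∈ U, ∀ S ∈ Ω, MulAut.conj u • S ∈ Ω := by
    rintro u hu _ ⟨j, ⟨hj1, hj2, hj4⟩, rfl⟩
    obtain ⟨m, Q, hm, hQ, hlt, rfl⟩ := h.ex u (hU hu).1
    have h4 : papp Q 4 = 4 := (stab_iff hm hQ hlt (by norm_num) (by norm_num)).1 (hU hu).2
    rw [conj_Xb hm hQ hlt (by omega)]
    have hr := papp_range hQ hj1 hj2
    refine ⟨_, ⟨hr.1, hr.2, fun e => hj4 ?_⟩, rfl⟩
    exact papp_injOn (isPerm_of_ok (ok_of_okP hQ)) (by omega) (by norm_num) (e.trans h4.symm)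
  let _ : MulAction U Ω :=
    { smul := fun u S => ⟨MulAut.conj (u : Spor.Co2) • S.1, hact u u.2 S.1 S.2⟩
      one_smul := fun S => Subtype.ext (by
        change MulAut.conj ((1 : U) : Spor.Co2) • S.1 = S.1
        rw [coe_one, map_one, one_smul])
      mul_smul := fun u v S => Subtype.ext (by
        change MulAut.conj ((u * v : U) : Spor.Co2) • S.1 = MulAut.conj (u : Spor.Co2) • MulAut.conj (v : Spor.Co2) • S.1
        rw [coe_mul, map_mul, mul_smul]) }
  have hcard : Nat.card Ω = 21 := by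
    rw [Nat.card_coe_set_eq, hΩ, Set.InjOn.ncard_image]
    · have e : {j : ℕ | 1 ≤ j ∧ j ≤ 22 ∧ j ≠ 4} = ((Finset.Icc 1 22).erase 4 : Finset ℕ) := by
        ext j
        rw [Finset.mem_coe, Finset.mem_erase, Finset.mem_Icc, Set.mem_ofPred_eq]
        tauto
      rw [e, Set.ncard_coe_finset]; rfl
    · intro j hj k hk e
      exact Xb_inj hj.1 hj.2.1 hk.1 hk.2.1 e
  have : Fact (Nat.Prime 2) := ⟨Nat.prime_two⟩
  have : Finite Ω := Nat.finite_of_card_ne_zero (by rw [hcard]; norm_num)
  obtain ⟨S, hS⟩ := h2.nonempty_fixed_point_of_prime_not_dvd_card Ω (by rw [hcard]; norm_num)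
  obtain ⟨j0, ⟨hj1, hj2, hj4⟩, e0⟩ := S.2
  have hfix0 : ∀ u ∈ U, MulAut.conj u • Xb j0 = Xb j0 := by
    intro u hu
    have h3 := hS ⟨u, hu⟩
    have h4 := congrArg Subtype.val h3
    change MulAut.conj u • S.1 = S.1 at h4
    rw [← e0] at h4
    exact h4
  -- an element of `K` mapping `1` to `k`
  have hK : ∀ k, 1 ≤ k → k ≤ 22 → k ≠ 4 → ∃ n ∈ N ⊓ normalizer (Xb 4 : Set Spor.Co2),
      MulAut.conj n • Xb 1 = Xb k := by
    intro k hk1 hk2 hk4
    obtain ⟨P, hP, hlt, e4, e1⟩ := exists_tr1 hk1 hk2 hk4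
    refine ⟨mo2 0 P, ⟨h.mem 0 P inE_zero hP hlt, ?_⟩, ?_⟩
    · exact (stab_iff inE_zero hP hlt (by norm_num) (by norm_num)).2 e4
    · rw [conj_Xb inE_zero hP hlt (by norm_num), e1]
  have hfix1 : ∀ u ∈ U, MulAut.conj u • Xb 1 = Xb 1 := by
    intro u hu
    obtain ⟨n, hnK, e⟩ := hK j0 hj1 hj2 hj4
    have h3 : n * u * n⁻¹ ∈ U := (mem_normalizer_iff.1 (hn hnK) u).1 hu
    have h4 := hfix0 _ h3
    rw [← e, map_mul, map_mul, mul_smul, mul_smul, ← mul_smul (MulAut.conj n⁻¹), ← map_mul,
      inv_mul_cancel, map_one, one_smul] at h4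
    exact smul_left_cancel _ h4
  have hfix : ∀ k, 1 ≤ k → k ≤ 22 → k ≠ 4 → ∀ u ∈ U, MulAut.conj u • Xb k = Xb k := by
    intro k hk1 hk2 hk4 u hu
    obtain ⟨n, hnK, e⟩ := hK k hk1 hk2 hk4
    have h3 : n⁻¹ * u * n ∈ U := by
      have := (mem_normalizer_iff.1 (hn (inv_mem hnK)) u).1 hu
      rwa [inv_inv] at this
    have h4 := hfix1 _ h3
    rw [← e, ← mul_smul, ← map_mul]
    have h5 : u * n = n * (n⁻¹ * u * n) := by group
    rw [h5, map_mul, mul_smul, h4]
  intro u hu
  obtain ⟨m, Q, hm, hQ, hlt, rfl⟩ := h.ex u (hU hu).1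
  have h4 : papp Q 4 = 4 := (stab_iff hm hQ hlt (by norm_num) (by norm_num)).1 (hU hu).2
  have h5 : Q = idP := eq_idP hQ hlt fun j hj1 hj2 => by
    by_cases hj : j = 4
    · rw [hj, h4]
    · exact (stab_iff hm hQ hlt hj1 hj2).1 (mem_norm_iff.2 (hfix j hj1 hj2 hj _ hu))
  rw [h5]
  exact ge_mem hm

end Cfsg.Agent.Omega.CoTwoK.Point

end

section


/-!
# The fields `pi_ind`, `pi_two`, `pi_cen` of `CoFacts` (helper962)
-/

set_option autoImplicit false

namespace Cfsg.Agent.Omega.CoTwoK.Point

open Cfsg Cfsg.Agent.Co2Type.TGroup Cfsg.Agent.Omega.CoTwoK.Normal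
open Subgroup

theorem Xi_eq : Xi = Xb 4 := by
  ext g
  exact Iff.rfl

theorem nn : NN (normalizer (E : Set Spor.Co2)) where
  ex _ hg := exN hg
  mem _ _ hm hQ hlt := mo2_mem_N hm hQ hlt

theorem pi_ind : (normalizer (E : Set Spor.Co2) ⊓ normalizer (Xi : Set Spor.Co2)).relIndex
    (normalizer (E : Set Spor.Co2)) = 22 := by
  rw [Xi_eq]
  exact index22 nn

theorem pi_two (U : Subgroup Spor.Co2)
    (hU : U ≤ normalizer (E : Set Spor.Co2) ⊓ normalizer (Xi : Set Spor.Co2)) (h2 : IsPGroup 2 U)
    (hn : normalizer (E : Set Spor.Co2) ⊓ normalizer (Xi : Set Spor.Co2) ≤ normalizer (U : Set Spor.Co2)) :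
    U ≤ E := by
  rw [Xi_eq] at hU hn
  exact two nn U hU h2 hn

theorem pi_cen : normalizer (E : Set Spor.Co2) ⊓ centralizer (Xi : Set Spor.Co2) ≤ E := by
  rw [Xi_eq]
  exact cen nn

end Cfsg.Agent.Omega.CoTwoK.Point

end

section


/-!
# `E` is the only abelian normal subgroup of order `2^10` and exponent two of `T` (helper904)

`eq_E` : an elementary abelian subgroup `X` of order `2^10` of `T`, normalised by `T`, is `E`.
-/

set_option autoImplicit false
set_option linter.dupNamespace false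

namespace Cfsg.Agent.Omega.CoTwoK.Unique

open Cfsg Cfsg.Agent.SporadicA.GolayBase Cfsg.Agent.SporadicA.GolayPerm
open Cfsg.Agent.SporadicStructure.M24El Cfsg.Agent.SporadicA.Co0Mono
open Cfsg.Agent.Co2Type.Mono Cfsg.Agent.Co2Type.TGroup Cfsg.Agent.Co2Type.TData Cfsg.Agent.Co2Type.FactsD
open Cfsg.Agent.Omega.CoTwoK.Normal
open Subgroup

/-- the central involution of `T22` -/
def z0 : ℕ := 0xbd8a79c88f824cb629c1a36b118900

/-- involutions `P` with `Q` such that `(PQ)²` is the central one -/
def W1 : List (ℕ × ℕ) := [(24846825968022034463888068564044087, 29171931033524210258733142741469239),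
  (25502201696235843599827270015207639, 29171931033524210258733142741469239),
  (984595137648923788561440491536746848, 25525039304699397647261516727159255),
  (25541498956642104225835441434478871, 13550039064159020506630624430901911),
  (984123571547119987159515244511988160, 29171931033524210258733142741469239),
  (984778947275340660717821982278781344, 29171931033524210258733142741469239),
  (25318392069809070586182471667501463, 13550039064159020506630624430901911),
  (959951653840603512340169225130412288, 13550039064159020506630624430901911),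
  (960134195134516694738973837755091328, 13550039064159020506630624430901911),
  (24875981887444158271857804570871863, 13550039064159020506630624430901911),
  (984649647149968121315896139822762272, 29171931033524210258733142741469239),
  (984231322269954045815289618422139072, 29171931033524210258733142741469239),
  (25294307192587981410002087747864951, 13550039064159020506630624430901911),
  (959894609041950200578829698494826528, 13550039064159020506630624430901911),
  (959501637986750971370155343607433568, 13550039064159020506630624430901911),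
  (25372901570853550914586307288451543, 29171931033524210258733142741469239),
  (24954576690846339836347322203457975, 29171931033524210258733142741469239),
  (984571052771685786531681076360874368, 25525039304699397647261516727159255),
  (29171931033524210258733142741469239, 24846825968022034463888068564044087),
  (28786565649808018267788159519672695, 24846825968022034463888068564044087),
  (968571400229892424521567095052929056, 984404989996146640795157331214174720),
  (968997331206528434462782776219896160, 984404989996146640795157331214174720),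
  (980660469009321933237100369869605120, 24846825968022034463888068564044087),
  (980275103625608021941000511577983360, 24846825968022034463888068564044087),
  (980717513807977534628435478231451680, 24846825968022034463888068564044087),
  (980907660773371473550124337591552352, 24846825968022034463888068564044087),
  (29228975832192131840956821991966999, 24846825968022034463888068564044087),
  (29419122797588351457490806282242455, 24846825968022034463888068564044087),
  (969236917299104980296428884531448064, 984404989996146640795157331214174720),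
  (969021416083764133459847312754444672, 984404989996146640795157331214174720),
  (13550039064159020506630624430901911, 25541498956642104225835441434478871),
  (13522150597528027721274484959332503, 25541498956642104225835441434478871),
  (984469640424621770493152374929066624, 24846825968022034463888068564044087),
  (984522881593772296139707057299359872, 24846825968022034463888068564044087),
  (984404989996146640795157331214174720, 24846825968022034463888068564044087),
  (983998074281752343943170086404197024, 24846825968022034463888068564044087),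
  (984439216841335364591954947081341408, 24846825968022034463888068564044087),
  (984273154656616016941563778037811360, 24846825968022034463888068564044087),
  (13356088475421506087823970845444343, 25541498956642104225835441434478871),
  (13239464237020258164500421254171191, 25541498956642104225835441434478871),
  (984194560199829098639614076839364832, 24846825968022034463888068564044087),
  (984321324869319684017664638098442784, 24846825968022034463888068564044087),
  (3946595451876709400138516383091383, 25541498956642104225835441434478871),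
  (4348440718605736056185651564595735, 25541498956642104225835441434478871),
  (4236887169715606419332153063721143, 25541498956642104225835441434478871),
  (4397878906769683873783212478777847, 25541498956642104225835441434478871),
  (25525039304699397647261516727159255, 25502201696235843599827270015207639),
  (984122284074263746180992119694772480, 25502201696235843599827270015207639),
  (984801745269732621477165754873104672, 25502201696235843599827270015207639),
  (24845578109244385367080640692979767, 25502201696235843599827270015207639),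
  (984169187118468521504517259810654656, 25502201696235843599827270015207639),
  (25374189043728842624340974963362071, 25502201696235843599827270015207639),
  (24892481153451736533347280408906039, 25502201696235843599827270015207639),
  (984650895008759490611503713509263392, 25502201696235843599827270015207639),
  (28848700245631865731357647764260919, 24846825968022034463888068564044087),
  (980258604361933000183917870384793792, 24846825968022034463888068564044087),
  (980337198607347817318270043156498688, 24846825968022034463888068564044087),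
  (28770106000223622339025476757293495, 24846825968022034463888068564044087),
  (980884823720551302367760286722672672, 24846825968022034463888068564044087),
  (29435622061258227005749040069806295, 24846825968022034463888068564044087),
  (29396325358846642421639194900498711, 24846825968022034463888068564044087),
  (980924120422969460693890133656717728, 24846825968022034463888068564044087)]

/-- the other involutions -/
def W2 : List (ℕ × ℕ) := [(13655254267030198278037860231268407, 24846825968022034463888068564044087),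
  (13837795560941099981997347925772663, 24846825968022034463888068564044087),
  (13598209468359987065818599254509847, 24846825968022034463888068564044087),
  (13205238413163038551989369297291671, 24846825968022034463888068564044087),
  (4102516248584811369385940029753623, 24846825968022034463888068564044087),
  (4528447225218527213057199351482775, 24846825968022034463888068564044087),
  (4768033317780472160969611844208695, 24846825968022034463888068564044087),
  (4552532102441919421932461912443255, 24846825968022034463888068564044087)]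

/-- `(PQ)²` -/
def sqc (P Q : ℕ) : ℕ := pcomp (pcomp P Q) (pcomp P Q)

theorem chk1 : W1.all (fun t => memL t.1 L22 && memL t.2 L22 && Nat.beq (pcomp t.2 t.2) idP &&
    Nat.beq (sqc t.1 t.2) z0) = true := by decide +kernel

theorem chk2 : W2.all (fun t => memL t.1 L22 && memL t.2 L22 && Nat.beq (pcomp t.2 t.2) idP &&
    memL (sqc t.1 t.2) (W1.map fun t => t.1)) = true := by decide +kernel

theorem chk3 : L22.all (fun P => !(Nat.beq (pcomp P P) idP) || Nat.beq P idP || Nat.beq P z0 ||
    memL P (W1.map fun t => t.1) || memL P (W2.map fun t => t.1)) = true := by decide +kernel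

/-- `X` has an element with permutation `P` -/
def HasP (X : Subgroup Spor.Co2) (P : ℕ) : Prop := ∃ m, inE m = true ∧ mo2 m P ∈ X

theorem step {X : Subgroup Spor.Co2} (hn : T ≤ normalizer (X : Set Spor.Co2)) {P Q : ℕ} (hP : P ∈ L22) (hQ : Q ∈ L22)
    (hQQ : pcomp Q Q = idP) (h : HasP X P) : HasP X (sqc P Q) := by
  obtain ⟨m, hm, hx⟩ := h
  have ht : mo2 0 Q ∈ T := mo2_mem_T inE_zero hQ
  have htt : mo2 0 Q * mo2 0 Q = 1 := by
    rw [mo2_mul inE_zero inE_zero (okP_of_mem hQ) (okP_of_mem hQ), hQQ, pimg_zero (isPerm_of_mem hQ), Nat.xor_self,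
      mo2_one]
  have hinv : (mo2 0 Q)⁻¹ = mo2 0 Q := inv_eq_of_mul_eq_one_left htt
  have h1 := (mem_normalizer_iff.1 (hn ht) _).1 hx
  have h2 := X.mul_mem hx h1
  rw [hinv] at h2
  have h3 : mo2 m P * (mo2 0 Q * mo2 m P * mo2 0 Q) = (mo2 m P * mo2 0 Q) * (mo2 m P * mo2 0 Q) := by
    simp only [mul_assoc]
  rw [h3, mo2_mul hm inE_zero (okP_of_mem hP) (okP_of_mem hQ)] at h2
  have hk : inE (m ^^^ pimg P 0) = true := inE_xor hm (inE_pimg (okP_of_mem hP) inE_zero)
  have hPQ : okP (pcomp P Q) = true := okP_pcomp (okP_of_mem hP) (okP_of_mem hQ)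
  rw [mo2_mul hk hk hPQ hPQ] at h2
  exact ⟨_, inE_xor hk (inE_pimg hPQ hk), h2⟩

/-- a normal subgroup not in `E` contains an element over `z0` -/
theorem has_z0 {X : Subgroup Spor.Co2} (hX : X ≤ T) (hn : T ≤ normalizer (X : Set Spor.Co2))
    (hsq : ∀ x ∈ X, x * x = 1) (hne : ¬ X ≤ E) : HasP X z0 := by
  obtain ⟨g, hg, hg'⟩ := SetLike.not_le_iff_exists.1 hne
  obtain ⟨m, P, hm, hP, rfl⟩ := hX hg
  have hsq' := hsq _ hg
  rw [mo2_mul hm hm (okP_of_mem hP) (okP_of_mem hP), ← mo2_one] at hsq'
  have hPP : pcomp P P = idP := (mo2_inj (inE_xor hm (inE_pimg (okP_of_mem hP) hm)) inE_zero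
    (okP_pcomp (okP_of_mem hP) (okP_of_mem hP)) okP_idP (pcomp_lt _ _) Cfsg.Agent.Co2Type.TGroup.idP_lt hsq').2
  have hPne : P ≠ idP := by
    rintro rfl
    exact hg' ⟨m, hm, rfl⟩
  have h0 : HasP X P := ⟨m, hm, hg⟩
  have key1 : ∀ P ∈ W1.map fun t => t.1, HasP X P → HasP X z0 := by
    intro P hP h
    obtain ⟨t, ht, rfl⟩ := List.mem_map.1 hP
    have h1 := List.all_eq_true.1 chk1 t ht
    simp only [Bool.and_eq_true, memL_iff] at h1
    obtain ⟨⟨⟨a, b⟩, c⟩, d⟩ := h1
    have h2 := step hn a b (Nat.eq_of_beq_eq_true c) h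
    rwa [Nat.eq_of_beq_eq_true d] at h2
  have h1 := List.all_eq_true.1 chk3 P hP
  simp only [Bool.or_eq_true, memL_iff] at h1
  rcases h1 with (((h1 | h1) | h1) | h1) | h1
  · rw [hPP] at h1
    simp at h1
  · exact absurd (Nat.eq_of_beq_eq_true h1) hPne
  · rwa [Nat.eq_of_beq_eq_true h1] at h0
  · exact key1 _ h1 h0
  · obtain ⟨t, ht, rfl⟩ := List.mem_map.1 h1
    have h2 := List.all_eq_true.1 chk2 t ht
    simp only [Bool.and_eq_true, memL_iff] at h2
    obtain ⟨⟨⟨a, b⟩, c⟩, d⟩ := h2
    exact key1 _ d (step hn a b (Nat.eq_of_beq_eq_true c) h0)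

/-! ### counting -/

/-- `[b, z0]` -/
def fb (b : ℕ) : ℕ := b ^^^ pimg z0 b

/-- the permutations fixing `[E, z0]` -/
def qC (Q : ℕ) : Bool := B10.all fun b => Nat.beq (pimg Q (fb b)) (fb b)

theorem length_qC : (L22.filter qC).length = 4 := by decide +kernel

theorem ok_z0 : okP z0 = true := by decide +kernel

theorem z0_lt : z0 < 2 ^ 120 := by decide +kernel

theorem z0_mem : z0 ∈ L22 := memL_iff.1 (by decide +kernel)

/-- basis of the masks fixed by `z0` -/
def BF : List ℕ := [4726026, 3415470, 1186194, 498974, 252432, 31554]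

theorem chkF : allSp B10 (fun m => !(Nat.beq (pimg z0 m) m) || spB BF m) 0 = true := by decide +kernel

theorem ncard_fix : {m | inE m = true ∧ pimg z0 m = m}.ncard ≤ 64 := by
  have h := ncard_sp BF
  refine le_trans (Set.ncard_le_ncard ?_ h.1) h.2
  rintro m ⟨hm, h1⟩
  have h2 := allSp_zero chkF (sp_B10 hm)
  rcases (Bool.or_eq_true _ _).mp h2 with h2 | h2
  · rw [h1] at h2; simp at h2
  · exact sp_of_spB h2

theorem fb_mem {b : ℕ} (hb : b ∈ B10) : inE (fb b) = true :=
  inE_xor (Cfsg.Agent.KFacts.Co2.Mono.chkB b hb) (inE_pimg ok_z0 (Cfsg.Agent.KFacts.Co2.Mono.chkB b hb))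

/-- the centraliser of `[E, z0]` in `T` -/
def CC : Subgroup Spor.Co2 := T ⊓ centralizer {g | ∃ b ∈ B10, g = ge (fb b)}

theorem mem_CC {g : Spor.Co2} : g ∈ CC ↔ ∃ m P, inE m = true ∧ P ∈ L22 ∧ qC P = true ∧ g = mo2 m P := by
  unfold CC
  rw [mem_inf, mem_centralizer_iff]
  constructor
  · rintro ⟨⟨m, P, hm, hP, rfl⟩, h⟩
    refine ⟨m, P, hm, hP, ?_, rfl⟩
    unfold qC
    rw [List.all_eq_true]
    intro b hb
    have h1 := h _ ⟨b, hb, rfl⟩
    have h2 := (Cfsg.Agent.Co2Type.TCard.comm_E_iff hm (fb_mem hb) (okP_of_mem hP) (lt_of_mem hP)).1 h1.symm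
    rw [h2]; exact Nat.beq_refl _
  · rintro ⟨m, P, hm, hP, hq, rfl⟩
    refine ⟨mo2_mem_T hm hP, ?_⟩
    rintro _ ⟨b, hb, rfl⟩
    have h1 : pimg P (fb b) = fb b := Nat.eq_of_beq_eq_true (List.all_eq_true.1 hq b hb)
    exact ((Cfsg.Agent.Co2Type.TCard.comm_E_iff hm (fb_mem hb) (okP_of_mem hP) (lt_of_mem hP)).2 h1).symm

theorem card_CC : Nat.card CC = 4096 := by
  rw [← SetLike.coe_sort_coe, Nat.card_coe_set_eq]
  have h : ((CC : Subgroup Spor.Co2) : Set Spor.Co2) =
      {g : Spor.Co2 | ∃ m P, inE m = true ∧ P ∈ L22 ∧ qC P = true ∧ g = mo2 m P} := by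
    ext g; exact mem_CC
  rw [h, Cfsg.Agent.Co2Type.TCard.ncard_filter, length_qC]

theorem E_le_CC : E ≤ CC := by
  rintro _ ⟨m, hm, rfl⟩
  refine mem_CC.2 ⟨m, idP, hm, idP_mem, ?_, rfl⟩
  decide +kernel

theorem relIndex_CC : E.relIndex CC = 4 := by
  have h2 := Subgroup.relIndex_mul_relIndex (⊥ : Subgroup Spor.Co2) E CC bot_le E_le_CC
  rw [relIndex_bot_left, relIndex_bot_left, card_CC, Cfsg.Agent.Co2Type.TCard.card_E] at h2
  omega

/-- **Uniqueness of `E`** -/
theorem eq_E {X : Subgroup Spor.Co2} (hX : X ≤ T) (hn : T ≤ normalizer (X : Set Spor.Co2))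
    (hsq : ∀ x ∈ X, x * x = 1) (hc : Nat.card X = 2 ^ 10) : X = E := by
  have hfin : Finite Spor.Co2 := inferInstance
  have hab : ∀ x ∈ X, ∀ y ∈ X, x * y = y * x := by
    intro x hx y hy
    have h1 := hsq _ (X.mul_mem hx hy)
    have hx1 : x⁻¹ = x := inv_eq_of_mul_eq_one_left (hsq x hx)
    have hy1 : y⁻¹ = y := inv_eq_of_mul_eq_one_left (hsq y hy)
    have h2 : x * y = (x * y)⁻¹ := (inv_eq_of_mul_eq_one_left h1).symm
    rw [h2, mul_inv_rev, hx1, hy1]
  by_cases hle : X ≤ E
  · exact eq_of_le_of_card_ge hle (by rw [hc, Cfsg.Agent.Co2Type.TCard.card_E])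
  exfalso
  obtain ⟨m, hm, hx⟩ := has_z0 hX hn hsq hle
  -- `[E, z0] ≤ X`
  have hF : ∀ b ∈ B10, ge (fb b) ∈ X := by
    intro b hb
    have hbE := Cfsg.Agent.KFacts.Co2.Mono.chkB b hb
    have h1 := (mem_normalizer_iff.1 (hn (E_le_T (ge_mem hbE))) _).1 hx
    have h2 := X.mul_mem h1 (X.inv_mem hx)
    have h3 : ge b * mo2 m z0 * (ge b)⁻¹ * (mo2 m z0)⁻¹ = ge (fb b) := by
      have h4 := conj_mo2 hm ok_z0 z0_lt hbE
      have h5 : ge b * mo2 m z0 * (ge b)⁻¹ * (mo2 m z0)⁻¹ = ge b * (mo2 m z0 * ge b * (mo2 m z0)⁻¹) := by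
        rw [ge_inv hbE]; group
      rw [h5, h4, ge_mul hbE (inE_pimg ok_z0 hbE)]
      rfl
    rwa [h3] at h2
  have hXC : X ≤ CC := by
    intro g hg
    refine ⟨hX hg, mem_centralizer_iff.2 ?_⟩
    rintro _ ⟨b, hb, rfl⟩
    exact hab _ (hF b hb) _ hg
  have h4 : E.relIndex X ≤ 4 := by
    rw [← relIndex_CC]
    exact relIndex_le_of_le_right hXC (by rw [relIndex_CC]; norm_num)
  have h64 : Nat.card (E ⊓ X : Subgroup Spor.Co2) ≤ 64 := by
    rw [← SetLike.coe_sort_coe, Nat.card_coe_set_eq]
    have hfm : {m | inE m = true ∧ pimg z0 m = m}.Finite :=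
      Set.Finite.subset (ncard_sp B10).1 fun m hm => sp_B10 hm.1
    have hsub : ((E ⊓ X : Subgroup Spor.Co2) : Set Spor.Co2) ⊆ ge '' {m | inE m = true ∧ pimg z0 m = m} := by
      rintro g ⟨⟨n, hn', rfl⟩, hg⟩
      refine ⟨n, ⟨hn', ?_⟩, rfl⟩
      exact (Cfsg.Agent.Co2Type.TCard.comm_E_iff hm hn' ok_z0 z0_lt).1 (hab _ hx _ hg)
    exact (Set.ncard_le_ncard hsub (hfm.image _)).trans ((Set.ncard_image_le hfm).trans ncard_fix)
  have h6 : Nat.card (E ⊓ X : Subgroup Spor.Co2) * E.relIndex X = Nat.card X := by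
    have h7 := Subgroup.relIndex_mul_relIndex (⊥ : Subgroup Spor.Co2) (E ⊓ X) X bot_le inf_le_right
    rwa [relIndex_bot_left, relIndex_bot_left, inf_relIndex_right] at h7
  have h8 : Nat.card (E ⊓ X : Subgroup Spor.Co2) * E.relIndex X ≤ 64 * 4 := Nat.mul_le_mul h64 h4
  rw [h6, hc] at h8
  norm_num at h8

end Cfsg.Agent.Omega.CoTwoK.Unique

end

section


/-!
# Enumeration of the elementary abelian subgroups of a small group given by tables (helper902)

* `ker` : the kernel of a linear map over the field with two elements (elimination), `sp_ker`;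
* `go` : enumeration of the closed subsets of the rows (involutions), with the space of common fixed vectors;
  `go_sound`.
-/

set_option autoImplicit false

namespace Cfsg.Agent.Omega.CoTwoK.ElAlg

open Cfsg.Agent.SporadicA.GolayPerm Cfsg.Agent.Co2Type.TGroup Cfsg.Agent.Co2Type.Mono

/-- bit `i` of `m` -/
def tb (m i : ℕ) : Bool := Nat.beq (Nat.land 1 (Nat.shiftRight m i)) 1

theorem tb_eq (m i : ℕ) : tb m i = m.testBit i := by
  have h : Nat.land 1 (Nat.shiftRight m i) = 1 &&& (m >>> i) := rfl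
  unfold tb Nat.testBit
  rw [h]
  have h2 : 1 &&& (m >>> i) = (m >>> i) % 2 := by rw [Nat.land_comm, Nat.and_one_is_mod]
  rw [h2]
  rcases Nat.mod_two_eq_zero_or_one (m >>> i) with h3 | h3 <;> rw [h3] <;> rfl

/-! ### elimination -/

/-- `(w, z)` is in the span of the pairs -/
def Sp2 : List (ℕ × ℕ) → ℕ → ℕ → Prop
  | [], w, z => w = 0 ∧ z = 0
  | (u, v) :: L, w, z => Sp2 L w z ∨ Sp2 L (w ^^^ u) (z ^^^ v)

/-- reduction of `q` by `(u, v)` at the bit `p` -/
def red (p u v : ℕ) (q : ℕ × ℕ) : ℕ × ℕ := cond (tb q.2 p) (Nat.xor q.1 u, Nat.xor q.2 v) q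

/-- the kernel of the map `u ↦ v` on the span -/
def ker : ℕ → List (ℕ × ℕ) → List ℕ
  | 0, L => L.map Prod.fst
  | _ + 1, [] => []
  | f + 1, (u, v) :: L =>
    cond (Nat.beq v 0) (u :: ker f L)
      (cond (tb v (Nat.log2 v)) (ker f (L.map (red (Nat.log2 v) u v))) (((u, v) :: L).map Prod.fst))

theorem sp_fst {L : List (ℕ × ℕ)} : ∀ {w z : ℕ}, Sp2 L w z → Sp (L.map Prod.fst) w := by
  induction L with
  | nil => intro w z h; exact h.1
  | cons a L ih =>
    obtain ⟨u, v⟩ := a
    intro w z h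
    rcases h with h | h
    · exact Or.inl (ih h)
    · exact Or.inr (ih h)

theorem xx (a b : ℕ) : (a ^^^ b) ^^^ b = a := by rw [Nat.xor_assoc, Nat.xor_self, Nat.xor_zero]

theorem sp2_red {p u v : ℕ} {L : List (ℕ × ℕ)} : ∀ {w z : ℕ}, Sp2 L w z →
    Sp2 (L.map (red p u v)) (red p u v (w, z)).1 (red p u v (w, z)).2 := by
  induction L with
  | nil =>
    rintro w z ⟨rfl, rfl⟩
    have : red p u v (0, 0) = (0, 0) := by
      unfold red
      have h : tb 0 p = false := by rw [tb_eq, Nat.zero_testBit]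
      simp only [h, cond_false]
    rw [this]
    exact ⟨rfl, rfl⟩
  | cons a L ih =>
    obtain ⟨x, y⟩ := a
    intro w z h
    have e : ∀ (c d : ℕ × ℕ), red p u v (c.1 ^^^ d.1, c.2 ^^^ d.2) =
        ((red p u v c).1 ^^^ (red p u v d).1, (red p u v c).2 ^^^ (red p u v d).2) := by
      rintro ⟨c1, c2⟩ ⟨d1, d2⟩
      unfold red
      simp only [tb_eq, Nat.testBit_xor]
      have k : ∀ s t r : ℕ, (s ^^^ t) ^^^ r = (s ^^^ r) ^^^ t := fun s t r => by
        rw [Nat.xor_assoc, Nat.xor_comm t r, ← Nat.xor_assoc]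
      have k2 : ∀ s t r : ℕ, (s ^^^ r) ^^^ (t ^^^ r) = s ^^^ t := fun s t r => by
        rw [Nat.xor_comm t r, ← Nat.xor_assoc, xx]
      cases h1 : c2.testBit p <;> cases h2 : d2.testBit p
      · rfl
      · simp only [Bool.false_xor, cond_true, cond_false]
        show (Nat.xor (c1 ^^^ d1) u, Nat.xor (c2 ^^^ d2) v) = (c1 ^^^ (d1 ^^^ u), c2 ^^^ (d2 ^^^ v))
        rw [← Nat.xor_assoc, ← Nat.xor_assoc]
        rfl
      · simp only [Bool.xor_false, cond_true, cond_false]
        show ((c1 ^^^ d1) ^^^ u, (c2 ^^^ d2) ^^^ v) = ((c1 ^^^ u) ^^^ d1, (c2 ^^^ v) ^^^ d2)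
        rw [k c1 d1 u, k c2 d2 v]
      · simp only [Bool.xor_self, cond_true, cond_false]
        show (c1 ^^^ d1, c2 ^^^ d2) = ((c1 ^^^ u) ^^^ (d1 ^^^ u), (c2 ^^^ v) ^^^ (d2 ^^^ v))
        rw [k2, k2]
    rcases h with h | h
    · exact Or.inl (ih h)
    · right
      have h3 := ih h
      rw [e (w, z) (x, y)] at h3
      exact h3

theorem sp_ker : ∀ (f : ℕ) {L : List (ℕ × ℕ)} {w : ℕ}, Sp2 L w 0 → Sp (ker f L) w := by
  intro f
  induction f with
  | zero => intro L w h; exact sp_fst h
  | succ f ih =>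
    intro L w h
    cases L with
    | nil => exact h.1
    | cons a L =>
      obtain ⟨u, v⟩ := a
      rw [ker]
      cases h1 : Nat.beq v 0 with
      | true =>
        have hv : v = 0 := Nat.eq_of_beq_eq_true h1
        subst hv
        rw [cond_true]
        rcases h with h | h
        · exact Or.inl (ih h)
        · rw [Nat.xor_zero] at h
          exact Or.inr (ih h)
      | false =>
        rw [cond_false]
        cases h2 : tb v (Nat.log2 v) with
        | false =>
          rw [cond_false]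
          exact sp_fst h
        | true =>
          rw [cond_true]
          apply ih
          rcases h with h | h
          · have h3 := sp2_red (p := Nat.log2 v) (u := u) (v := v) h
            have e : red (Nat.log2 v) u v (w, 0) = (w, 0) := by
              unfold red
              have h4 : tb 0 (Nat.log2 v) = false := by rw [tb_eq, Nat.zero_testBit]
              simp only [h4, cond_false]
            rw [e] at h3
            exact h3
          · rw [Nat.zero_xor] at h
            have h3 := sp2_red (p := Nat.log2 v) (u := u) (v := v) h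
            have e : red (Nat.log2 v) u v (w ^^^ u, v) = (w, 0) := by
              unfold red
              simp only [h2, cond_true]
              show ((w ^^^ u) ^^^ u, v ^^^ v) = (w, 0)
              rw [xx, Nat.xor_self]
            rw [e] at h3
            exact h3

/-- the fixed vectors of `P` in the span of `U` -/
def fixU (P : ℕ) (U : List ℕ) : List ℕ := ker 24 (U.map fun u => (u, Nat.xor (pimg P u) u))

theorem sp_fixU {P : ℕ} (hP : isPerm P = true) {U : List ℕ} {n : ℕ} (hn : Sp U n) (hf : pimg P n = n) :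
    Sp (fixU P U) n := by
  apply sp_ker
  have key : ∀ (U : List ℕ) (n : ℕ), Sp U n → Sp2 (U.map fun u => (u, Nat.xor (pimg P u) u)) n (pimg P n ^^^ n) := by
    intro U
    induction U with
    | nil =>
      intro n h
      have h' : n = 0 := h
      subst h'
      exact ⟨rfl, by rw [pimg_zero hP, Nat.xor_self]⟩
    | cons b U ih =>
      intro n h
      rcases h with h | h
      · exact Or.inl (ih n h)
      · right
        have h1 := ih _ h
        rw [pimg_xor hP] at h1
        have e : (pimg P n ^^^ pimg P b) ^^^ (n ^^^ b) = (pimg P n ^^^ n) ^^^ (Nat.xor (pimg P b) b) := by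
          show (pimg P n ^^^ pimg P b) ^^^ (n ^^^ b) = (pimg P n ^^^ n) ^^^ (pimg P b ^^^ b)
          rw [Nat.xor_assoc, Nat.xor_assoc, ← Nat.xor_assoc (pimg P b) n b, Nat.xor_comm (pimg P b) n,
            Nat.xor_assoc]
        rw [e] at h1
        exact h1
  have h := key U n hn
  rw [hf, Nat.xor_self] at h
  exact h

/-! ### enumeration -/

/-- a row: index, permutation, mask of the commuting rows, products (7 bits each) -/
structure R where
  i : ℕ
  P : ℕ
  cm : ℕ
  pr : ℕ

/-- index of the product with row `h` -/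
def R.prod (r : R) (h : ℕ) : ℕ := Nat.mod (Nat.shiftRight r.pr (Nat.mul 7 h)) 128

/-- the index of `r` cannot be added to `H` -/
def bad (r : R) (inn : ℕ) (H : List ℕ) : Bool :=
  H.any fun h => !(tb r.cm h) || (Nat.blt (r.prod h) r.i && !(tb inn (r.prod h)))

/-- bits -/
def addB (m : ℕ) : List ℕ → ℕ
  | [] => m
  | h :: H => Nat.lor (Nat.shiftLeft 1 h) (addB m H)

/-- enumeration -/
def go : List R → ℕ → List ℕ → List ℕ → Bool
  | [], _, H, U => H.isEmpty || Nat.ble (Nat.mul (Nat.succ H.length) (Nat.pow 2 U.length)) 512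
  | r :: L, inn, H, U =>
    cond (tb inn r.i) (go L inn H U)
      (cond (go L inn H U)
        (cond (bad r inn H) true
          (go L (addB inn (r.i :: H.map r.prod)) (r.i :: (H ++ H.map r.prod)) (fixU r.P U))) false)

theorem testBit_addB {m : ℕ} {H : List ℕ} {j : ℕ} : (addB m H).testBit j = true ↔ m.testBit j = true ∨ j ∈ H := by
  induction H with
  | nil => simp [addB]
  | cons h H ih =>
    have e : addB m (h :: H) = (1 <<< h) ||| addB m H := rfl
    rw [e, Nat.testBit_or, Bool.or_eq_true, ih, List.mem_cons, Nat.one_shiftLeft, Nat.testBit_two_pow]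
    simp only [decide_eq_true_eq]
    constructor
    · rintro (h1 | h1 | h1)
      · exact Or.inr (Or.inl h1.symm)
      · exact Or.inl h1
      · exact Or.inr (Or.inr h1)
    · rintro (h1 | h1 | h1)
      · exact Or.inr (Or.inl h1)
      · exact Or.inl h1.symm
      · exact Or.inr (Or.inr h1)

/-- **Soundness.** `S` : the closed set of indices, `V` : vectors fixed by the rows of `S`. -/
theorem go_sound {all : List R} {S V : ℕ → Prop}
    (hperm : ∀ r ∈ all, isPerm r.P = true)
    (hfix : ∀ r ∈ all, S r.i → ∀ n, V n → pimg r.P n = n)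
    (hc : ∀ r ∈ all, S r.i → ∀ h, S h → r.cm.testBit h = true)
    (hp : ∀ r ∈ all, S r.i → ∀ h, S h → r.i ≠ h → S (r.prod h) ∧ r.prod h ≠ r.i) :
    ∀ (L : List R), (∀ r ∈ L, r ∈ all) → (L.map R.i).Pairwise (· < ·) →
    ∀ (inn : ℕ) (H U : List ℕ),
      (∀ j, inn.testBit j = true ↔ j ∈ H) → (∀ j ∈ H, S j) → (∀ j, S j → j ∈ H ∨ j ∈ L.map R.i) →
      (∀ n, V n → Sp U n) → go L inn H U = true →
      ∃ H' U' : List ℕ, (∀ j, S j → j ∈ H') ∧ (∀ n, V n → Sp U' n) ∧
        (H' = [] ∨ (H'.length + 1) * 2 ^ U'.length ≤ 512) := by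
  intro L
  induction L with
  | nil =>
    intro _ _ inn H U _ _ h3 h4 hgo
    refine ⟨H, U, fun j hj => ?_, h4, ?_⟩
    · rcases h3 j hj with h | h
      · exact h
      · exact absurd h (by simp)
    · rw [go, Bool.or_eq_true] at hgo
      rcases hgo with h | h
      · exact Or.inl (List.isEmpty_iff.1 h)
      · exact Or.inr (Nat.le_of_ble_eq_true h)
  | cons r L ih =>
    intro hall hpw inn H U h1 h2 h3 h4 hgo
    have hr : r ∈ all := hall r List.mem_cons_self
    have hall' : ∀ s ∈ L, s ∈ all := fun s hs => hall s (List.mem_cons_of_mem _ hs)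
    rw [List.map_cons, List.pairwise_cons] at hpw
    rw [go] at hgo
    cases hb : tb inn r.i with
    | true =>
      rw [hb, cond_true] at hgo
      refine ih hall' hpw.2 inn H U h1 h2 (fun j hj => ?_) h4 hgo
      rcases h3 j hj with h | h
      · exact Or.inl h
      · rw [List.map_cons, List.mem_cons] at h
        rcases h with h | h
        · left
          rw [h, ← h1, ← tb_eq]
          exact hb
        · exact Or.inr h
    | false =>
      rw [hb, cond_false] at hgo
      cases hg1 : go L inn H U with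
      | false => rw [hg1, cond_false] at hgo; exact absurd hgo (by simp)
      | true =>
        rw [hg1, cond_true] at hgo
        by_cases hS : S r.i
        · have hnot : r.i ∉ H := by
            intro h
            rw [← h1, ← tb_eq, hb] at h
            exact absurd h (by simp)
          cases hbad : bad r inn H with
          | true =>
            exfalso
            obtain ⟨h, hh, hx⟩ := List.any_eq_true.1 hbad
            have hne : r.i ≠ h := fun e => hnot (e ▸ hh)
            rw [Bool.or_eq_true] at hx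
            rcases hx with hx | hx
            · rw [tb_eq, hc r hr hS h (h2 h hh)] at hx
              exact absurd hx (by simp)
            · rw [Bool.and_eq_true] at hx
              obtain ⟨h5, h6⟩ := hp r hr hS h (h2 h hh) hne
              have h7 : r.prod h < r.i := Nat.blt_eq.mp hx.1
              rcases h3 _ h5 with h8 | h8
              · rw [← h1, ← tb_eq] at h8
                rw [h8] at hx
                exact absurd hx.2 (by simp)
              · rw [List.map_cons, List.mem_cons] at h8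
                rcases h8 with h8 | h8
                · exact h6 h8
                · exact absurd (hpw.1 _ h8) (by omega)
          | false =>
            rw [hbad, cond_false] at hgo
            refine ih hall' hpw.2 _ _ _ ?_ ?_ ?_ ?_ hgo
            · intro j
              rw [testBit_addB, h1]
              simp only [List.mem_cons, List.mem_append]
              tauto
            · intro j hj
              rw [List.mem_cons, List.mem_append] at hj
              rcases hj with h | h | h
              · rw [h]; exact hS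
              · exact h2 j h
              · obtain ⟨k, hk, rfl⟩ := List.mem_map.1 h
                exact (hp r hr hS k (h2 k hk) (fun e => hnot (e ▸ hk))).1
            · intro j hj
              rcases h3 j hj with h | h
              · left
                rw [List.mem_cons, List.mem_append]
                exact Or.inr (Or.inl h)
              · rw [List.map_cons, List.mem_cons] at h
                rcases h with h | h
                · left
                  rw [h]
                  exact List.mem_cons_self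
                · exact Or.inr h
            · intro n hn
              exact sp_fixU (hperm r hr) (h4 n hn) (hfix r hr hS n hn)
        · refine ih hall' hpw.2 inn H U h1 h2 (fun j hj => ?_) h4 hg1
          rcases h3 j hj with h | h
          · exact Or.inl h
          · rw [List.map_cons, List.mem_cons] at h
            rcases h with h | h
            · exact absurd (h ▸ hj) hS
            · exact Or.inr h

end Cfsg.Agent.Omega.CoTwoK.ElAlg

end

section


/-!
# The table of the 71 involutions of `T22` (helper902)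
-/

set_option autoImplicit false

namespace Cfsg.Agent.Omega.CoTwoK.ElData

open Cfsg.Agent.Omega.CoTwoK.ElAlg

/-- invRows: index, permutation, mask of the commuting rows, products -/
def invRows : List R := [
  ⟨0, 13550039064159020506630624430901911, 1844688762594768203791,
    0x81fffe07ffffffffffffffffffffc992fffc68cfffffffffffffffffffffffffffffffffffffffffffffffff6ad3ffffffd8b0ffffffffffffff8b1a17f⟩,
  ⟨1, 13522150597528027721274484959332503, 1844688762594768203791,
    0xc17ffe03ffffffffffffffffffffc913fffc60dfffffffffffffffffffffffffffffffffffffffffffffffff68d7ffffffd831ffffffffffffff8d17fc2⟩,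
  ⟨2, 13356088475421506087823970845444343, 1844688762594768203791,
    0xfffe0fffffffffffffffffffffc68cfffc992fffffffffffffffffffffffffffffffffffffffffffffffff62c3ffffffdab4ffffffffffffff85fe2c6⟩,
  ⟨3, 13239464237020258164500421254171191, 1844688762594768203791,
    0x407ffe0bffffffffffffffffffffc60dfffc913fffffffffffffffffffffffffffffffffffffffffffffffff60c7ffffffda35ffffffffffffffff0a345⟩,
  ⟨4, 3946595451876709400138516383091383, 1859374156554692706544,
    0x183fffe17fff1c3ffff2047fffffffffffffffffffffffffffffffffffffffffffffffffffffffffffffffffffffdd3b7cffffffffffff8b1a17ffffffff⟩,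
  ⟨5, 4348440718605736056185651564595735, 1859374156554692706544,
    0x1c37ffe13fff1e3bfff2243fffffffffffffffffffffffffffffffffffffffffffffffffffffffffffffffffffffddba7efbffffffffff8d17fc2fffffff⟩,
  ⟨6, 4236887169715606419332153063721143, 1859374156554692706544,
    0x102fffe1ffff2047fff1c3ffffffffffffffffffffffffffffffffffffffffffffffffffffffffffffffffffffffdf3f74efffffffffff85fe2c6fffffff⟩,
  ⟨7, 4397878906769683873783212478777847, 1859374156554692706544,
    0x1427ffe1bfff2243fff1e3bfffffffffffffffffffffffffffffffffffffffffffffffffffffffffffffffffffffdfbe76ebffffffffffff0a345fffffff⟩,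
  ⟨8, 24846825968022034463888068564044087, 2287399646344665632512,
    0x285a84827ffffffffffffffffffffffff5297fffffffffffffd9c4fffd943ffffffffffffff346cc192c5ca15ffffffffffffff8b1a17fffffffffffffff⟩,
  ⟨9, 25502201696235843599827270015207639, 2287399646412849286912,
    0x2c5294a23ffffffffffffffffffffffff5093fffffffffffffe233fffe1b2448d0213c7ce1dffffffffffffffffffffffffffff8d17fc2ffffffffffffff⟩,
  ⟨10, 25372901570853550914586307288451543, 2287399646344665632512,
    0x204a4502fffffffffffffffffffffffff4aa7fffffffffffffd943fffd9c4ffffffffffffff2854b173064d1bffffffffffffff85fe2c6ffffffffffffff⟩,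
  ⟨11, 24954576690846339836347322203457975, 2287399646412849286912,
    0x24425522bffffffffffffffffffffffff48a3fffffffffffffe1b2fffe2333874f1f4085123ffffffffffffffffffffffffffffff0a345ffffffffffffff⟩,
  ⟨12, 984469640424621770493152374929066624, 1844688766099461763087,
    0x489fffe37ffffffffffffffffffffc182fffc080ffffffffffc890fffc78effffffffffffffffffffffffffff8b194a84a9217fffffffffffffff6ad18b0⟩,
  ⟨13, 984522881593772296139707057299359872, 1844688766099461763087,
    0x4c97ffe33ffffffffffffffffffffc103fffc001ffffffffffc811fffc70fffffffffffffffffffffffffffff8d154294897fc2ffffffffffffff68d5831⟩,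
  ⟨14, 984404989996146640795157331214174720, 1859374160059386818800,
    0x408fffe3ffff0817fff0c1ffffffffffffffffffffffffffffc992fffc68cffffffffffffffffffffffffffff52a22c685fd2a4fffffff74edf3ffffffff⟩,
  ⟨15, 983998074281752343943170086404197024, 1859374160059386818800,
    0x4487ffe3bfff0a13fff0e1bfffffffffffffffffffffffffffc913fffc60dffffffffffffffffffffffffffff50a6345ff09225fffffff76e9fbefffffff⟩,
  ⟨16, 984439216841335364591954947081341408, 1859374160059386818800,
    0x387fffe47fff0c1ffff0817fffffffffffffffffffffffffffc68cfffc992ffffffffffffffffffffffffffff4a9217f8b194a8fffffff7cfdd3bfffffff⟩,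
  ⟨17, 984273154656616016941563778037811360, 1859374160059386818800,
    0x3c77ffe43fff0e1bfff0a13fffffffffffffffffffffffffffc60dfffc913ffffffffffffffffffffffffffff4897fc28d15429fffffff7ef9dbafffffff⟩,
  ⟨18, 984194560199829098639614076839364832, 1844688766099461763087,
    0x306fffe4fffffffffffffffffffffc080fffc182ffffffffffc78efffc890ffffffffffffffffffffffffffff85fd2a452a22c6ffffffffffffff62c1ab4⟩,
  ⟨19, 984321324869319684017664638098442784, 1844688766099461763087,
    0x3467ffe4bffffffffffffffffffffc001fffc103ffffffffffc70ffffc811ffffffffffffffffffffffffffffff0922550a6345ffffffffffffff60c5a35⟩,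
  ⟨20, 25525039304699397647261516727159255, 1662692954842300679424,
    0x6bf982dfd1fffffd0fffffcfff3bffffffffffffffffffffffff99fffff9783fdeff73fdbff1519444490c47ffffffffffffffffe6ff95ffffffffffffff⟩,
  ⟨21, 984122284074263746180992119694772480, 1643003217248619857152,
    0x6ff992ffff9cfffff9efffffa0fe8bffffffffffffffffffffff98fffff96fedbfb8fef3fc08c2a2288693f88fffffffffffffffe6bf94ffffffffffffff⟩,
  ⟨22, 984801745269732621477165754873104672, 1662692954842300679424,
    0x63f9a29fd0fffffd1fffffceff3fffffffffffffffffffffffff9bfffff957bfe0ff6ffdcff511054611fd243fffffffffffffffe67f97ffffffffffffff⟩,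
  ⟨23, 24845578109244385367080640692979767, 1643003217248619857152,
    0x67f9b2bfff9efffff9cfffffa2fe83ffffffffffffffffffffff9afffff94fee3fb6ff03fbc88a230afe221a4fffffffffffffffe63f96ffffffffffffff⟩,
  ⟨24, 984169187118468521504517259810654656, 1662692954842300679424,
    0x5bf9435fcffffffcefffffd1ff43ffffffffffffffffffffffff95fffff9b73fdbff83fdeff490c47f1519444fffffffffffffffe5ff99ffffffffffffff⟩,
  ⟨25, 25374189043728842624340974963362071, 1643003217248619857152,
    0x5ff9537fffa0fffffa2fffff9cfe7bffffffffffffffffffffff94fffff9afef3fc0fedbfb88693f888c2a228fffffffffffffffe5bf98ffffffffffffff⟩,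
  ⟨26, 24892481153451736533347280408906039, 1662692954842300679424,
    0x53f9631fcefffffcffffffd0ff47ffffffffffffffffffffffff97fffff996ffdcff7bfe0ff11fd2435110546fffffffffffffffe57f9bffffffffffffff⟩,
  ⟨27, 984650895008759490611503713509263392, 1643003217248619857152,
    0x57f9733fffa2fffffa0fffff9efe73ffffffffffffffffffffff96fffff98ff03fbcfee3fb6fe221a488a230afffffffffffffffe53f9affffffffffffff⟩,
  ⟨28, 28848700245631865731357647764260919, 1643003218462395861504,
    0x8bfa03dfff95fffff97fffff99fe6fffffffffffffffffffffd0fffffcfff17194c44b0c4ff6dfdc7f79fe07fffffffffffffff47fceffffffffffffffff⟩,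
  ⟨29, 980258604361933000183917870384793792, 1662692956033170541056,
    0x8ffa13ffcd7ffffcc7ffffcb7f29ffffffffffffffffffffffd07ffffcf7f8c2e2298697f89ff07fbdfee7fb7ffffffffffffff45fce7fffffffffffffff⟩,
  ⟨30, 980337198607347817318270043156498688, 1643003218462395861504,
    0x83fa239fff97fffff95fffff9bfe67ffffffffffffffffffffd1fffffceff53105c613fd2c371fdb7f81fde7fffffffffffffff43fcfffffffffffffffff⟩,
  ⟨31, 28770106000223622339025476757293495, 1662692956033170541056,
    0x87fa33bfcc7ffffcd7ffffca7f2dffffffffffffffffffffffd17ffffce7f88a630bfe261a5fef7fc1fedffb9ffffffffffffff41fcf7fffffffffffffff⟩,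
  ⟨32, 980884823720551302367760286722672672, 1643003218462395861504,
    0x7bf9c45fff99fffff9bfffff95fe5fffffffffffffffffffffcefffffd1ff4b0c4ff17194c479fe07f6dfdc7fffffffffffffff3ffd0ffffffffffffffff⟩,
  ⟨33, 29435622061258227005749040069806295, 1662692956033170541056,
    0x7ff9d47fcb7ffffca7ffffcd7f31ffffffffffffffffffffffce7ffffd17f8697f898c2e229fee7fb7ff07fbdffffffffffffff3dfd07fffffffffffffff⟩,
  ⟨34, 29396325358846642421639194900498711, 1643003218462395861504,
    0x73f9e41fff9bfffff99fffff97fe57ffffffffffffffffffffcffffffd0ff13fd2c353105c681fde7f71fdb7fffffffffffffff3bfd1ffffffffffffffff⟩,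
  ⟨35, 980924120422969460693890133656717728, 1662692956033170541056,
    0x77f9f43fca7ffffcb7ffffcc7f35ffffffffffffffffffffffcf7ffffd07ffe261a588a630bfedffb9fef7fc1ffffffffffffff39fd17fffffffffffffff⟩,
  ⟨36, 984123571547119987159515244511988160, 2287399646344666676992,
    0xa148a1097ffffffffffffffffffffffff1627fffffffffffffe2c6fffe17fffffffffffffff3064d1b2854b1722409921a3078e6711943ffffffffffffff⟩,
  ⟨37, 984778947275340660717821982278781344, 2287399646412850331392,
    0xa540b1293ffffffffffffffffffffffff1423fffffffffffffe345fffffc240851233874f1fffffffffffffff2044913183470f88ce1b2ffffffffffffff⟩,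
  ⟨38, 959951653840603512340169225130412288, 2361183237861409816576,
    0xa95b4609dfbe83017ae6ed96ac76e99c46ac59437af1cb88b1bfff85ffffffffffffffffffffffffffffffffffffffffffffffffffffffffffffffffffff⟩,
  ⟨39, 960134195134516694738973837755091328, 2361183237861409816576,
    0xad5356299f3f810572f6cdd62d74ee23368c21b278f5c398d17fffff0bffffffffffffffffffffffffffffffffffffffffffffffffffffffffffffffffff⟩,
  ⟨40, 984649647149968121315896139822762272, 2287399646344666676992,
    0x9128814a7ffffffffffffffffffffffff122ffffffffffffffe17ffffe2c6ffffffffffffff2c5ca15346cc191e3868c2648890650d9c4ffffffffffffff⟩,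
  ⟨41, 984231322269954045815289618422139072, 2287399646412850331392,
    0x9520916a3ffffffffffffffffffffffff102bfffffffffffffffc2fffe3453c7ce1d448d021ffffffffffffff1c3c60d244c81186ca233ffffffffffffff⟩,
  ⟨42, 959894609041950200578829698494826528, 2361183237861409816576,
    0x993b068addba6ed96ac83017ae7ef994362d59c472e1ebc85fffff8b1bffffffffffffffffffffffffffffffffffffffffffffffffffffffffffffffffff⟩,
  ⟨43, 959501637986750971370155343607433568, 2361183237861409816576,
    0x9d3316aa9d3b6cdd62d810572f7cfe1b260d223370e5e3dff0bfff8d17ffffffffffffffffffffffffffffffffffffffffffffffffffffffffffffffffff⟩,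
  ⟨44, 968571400229892424521567095052929056, 2361183237861409816576,
    0xb97be74b5ab467115aa650d3a662c20c07eedbb68b1a17f7af3fff72e3ffffffffffffffffffffffffffffffffffffffffffffffffffffffffffffffffff⟩,
  ⟨45, 968997331206528434462782776219896160, 2361183237861409816576,
    0xbd73f76b1a3588cd52b86c932760c60417ce9b378d17fc278f7fff70e7ffffffffffffffffffffffffffffffffffffffffffffffffffffffffffffffffff⟩,
  ⟨46, 969236917299104980296428884531448064, 2361183237861409816576,
    0xb16ba7cbd8b0650d3a667115aa6ad1bb676fe0c085fe2c672e3fff7af3ffffffffffffffffffffffffffffffffffffffffffffffffffffffffffffffffff⟩,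
  ⟨47, 969021416083764133459847312754444672, 2361183237861409816576,
    0xb563b7eb983186c932788cd52b68d5b3774fa041ff0a34570e7fff78f7ffffffffffffffffffffffffffffffffffffffffffffffffffffffffffffffffff⟩,
  ⟨48, 13655254267030198278037860231268407, 2361183237861410615311,
    0xd1aaa4cc57ae7af1fbe72e1dba5ab22c6569e17f8301bb66713fff650ffffffffffffffffffffffffffffffff060bffffffc080ffffffffffffff264868c⟩,
  ⟨49, 13837795560941099981997347925772663, 2361183237861410615311,
    0xd5a2b4ec172f78f5f3f70e5d3b58b6345549bfc28105b3788cffff86cbfffffffffffffffffffffffffffffff040fffffffc001ffffffffffffff244c60d⟩,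
  ⟨50, 25318392069809070586182471667501463, 2361183241366103133952,
    0xce245850de3d5cbe04158b5b3770e552b8dfd3277cfdd3b68d450b60c4409ffffffffffffffffffffffffffffffffffffffffff50a5225ffffffffffffff⟩,
  ⟨51, 25294307192587981410002087747864951, 2361183241366103133952,
    0xca1c28b11c3958b5b375cbe04178f5327ff1952b74edf3f60c440968d450bffffffffffffffffffffffffffffffffffffffffff4895429ffffffffffffff⟩,
  ⟨52, 13598209468359987065818599254509847, 2361183237861410615311,
    0xc18a654d56ac72e1dba7af1fbe5eba17f4eae2c66eda0c0650ffff6713fffffffffffffffffffffffffffffff0203ffffffc182ffffffffffffff1a30992⟩,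
  ⟨53, 13205238413163038551989369297291671, 2361183237861410615311,
    0xc582756d162d70e5d3b78f5f3f5cbffc24caa3456cde04186cbfff88cffffffffffffffffffffffffffffffff0007ffffffc103ffffffffffffff1834913⟩,
  ⟨54, 29171931033524210258733142741469239, 2361183237884405088256,
    0x1020bc70de2c656a99c44e9994385fd7ae7ae56ac6ad18b07efbfff76ebffffe57f97fe67f9b39fcf7f41fd17ffffffffffffffffffffffffffffffffffff⟩,
  ⟨55, 28786565649808018267788159519672695, 2361183237907132973056,
    0x10603d72da34554ae2334c9e1b2ff0972f78e162d68d58317cfffff74effff35fcc7f2dfca7ffe8ffa1fe7ff9dfffffffffffffffffffffffffffffffffff⟩,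
  ⟨56, 980660469009321933237100369869605120, 2361183237884405088256,
    0xf1ec06ce59c46ad22c662c217f650dfbe82dddba56a93a65ebbfff5ab3ffffe5ff95fe6ff993dfce7f45fd07ffffffffffffffffffffffffffffffffffff⟩,
  ⟨57, 980275103625608021941000511577983360, 2361183237907132973056,
    0xf5e416ee223368d634560c7fc286c9f3f80d9d3b54ad3275cbffff58b7fff31fcd7f29fcb7ffe87fa3fe77f9ffffffffffffffffffffffffffffffffffff⟩,
  ⟨58, 4102516248584811369385940029753623, 2361183237861410062576,
    0xf9fae58ed5aa8b19ab485fd8b04e99ebc5eb5cb867119438303fff6edbffffffffffffffffffffffffffffffffffc2050c1fffffffffff1c3c811fffffff⟩,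
  ⟨59, 4528447225218527213057199351482775, 2361183237861410062576,
    0xfdf2f5ae952b8d15a35ff098314c9de3d5cb1c3988ce1b28107fff6cdfffffffffffffffffffffffffffffffffffc2840e1bffffffffff1e38890fffffff⟩,
  ⟨60, 980717513807977534628435478231451680, 2361183237884405088256,
    0xe1cb680f594362c217f6ad22c66711dba6f05fbe4e995aa5ab3fff5ebbffffe67f9bfe57f9741fd17f39fcf7ffffffffffffffffffffffffffffffffffff⟩,
  ⟨61, 980907660773371473550124337591552352, 2361183237907132973056,
    0xe5c3782f21b260c7fc268d634588cdd3b6d01f3f4c9d52b58b7fff5cbffff2dfca7f35fcc7ffe7ff9dfe8ffa1fffffffffffffffffffffffffffffffffff⟩,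
  ⟨62, 4768033317780472160969611844208695, 2361183237861410062576,
    0xe9dac5cfd3a685fd8b08b19ab456a9cb85abdebc650d9c46edbfff8303ffffffffffffffffffffffffffffffffffc3070817ffffffffff204470ffffffff⟩,
  ⟨63, 4552532102441919421932461912443255, 2361183237861410062576,
    0xedd2d5ef9327ff098318d15a3554adc3958b9e3d86ca2336cdffff8107ffffffffffffffffffffffffffffffffffc3860a13ffffffffff224078efffffff⟩,
  ⟨64, 29228975832192131840956821991966999, 2361183237884405088256,
    0xd9bb8790617f4e9994356a99c48b196ac72f57ae62c1ab476ebfff7efbffffe6ff99fe5ff9545fd07f3dfce7ffffffffffffffffffffffffffffffffffff⟩,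
  ⟨65, 29419122797588351457490806282242455, 2361183237907132973056,
    0xddb397b03fc24c9e1b254ae2338d1562d70f172f60c5a3574effff7cfffff29fcb7f31fcd7ffe77f9ffe87fa3fffffffffffffffffffffffffffffffffff⟩,
  ⟨66, 984595137648923788561440491536746848, 2361183241366104178687,
    0x11633365fe0417cfde3d74edc396cdda35890d8315cbd62d54ad4294c9d225ffffffffffffffffffffffffffff244c8111c3c60d142c4090c1c205040c001⟩,
  ⟨67, 25541498956642104225835441434478871, 2361183241434821562112,
    0x1119c6fec9ebc5eba0c05ab1bb672e15aa8b093a67ef9dba6ad058a62c048842811a23a70f9e3260d9a2a50b96ffffffffffffff52a12a4ffffffffffffff⟩,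
  ⟨68, 24875981887444158271857804570871863, 2361183241434821562112,
    0x10d97f8ccdcb85ab1bb65eba0c07af13a685155aa76e9fbe62c04886ad058a3e78e9c46890a02e58a943668c98ffffffffffffff4a914a8ffffffffffffff⟩,
  ⟨69, 984571052771685786531681076360874368, 2361183241366104178687,
    0x10bfb26719b3774edc397cfde3d81058318711a3558b572f4c9d22554ad429ffffffffffffffffffffffffffff183470f2044913102450b08143070004103⟩,
  ⟨70, 984152727466544257491081215029119232, 2361183241434822606847,
    0x1fe1438915bb676e9cb87ef9ebc83018b064cdab45ab17ae4e992a456a94a83a70f9e42811a22a50b963260d9a1a3078e2240992122058a0a103860200182⟩]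

/-- the permutations -/
def codes : List ℕ := invRows.map R.P

end Cfsg.Agent.Omega.CoTwoK.ElData

end

section


/-!
# The table of the involutions of `T22` is correct; the enumeration (helper902)
-/

set_option autoImplicit false

namespace Cfsg.Agent.Omega.CoTwoK.ElChk

open Cfsg.Agent.SporadicA.GolayPerm Cfsg.Agent.Co2Type.TData Cfsg.Agent.Co2Type.TGroup Cfsg.Agent.Co2Type.Mono
open Cfsg.Agent.SporadicStructure.M24El
open Cfsg.Agent.Omega.CoTwoK.ElAlg Cfsg.Agent.Omega.CoTwoK.ElData

def pts : List ℕ := [1, 2, 3, 4, 5, 6, 7, 8, 9, 10, 11, 12, 13, 14, 15, 16, 17, 18, 19, 20, 21, 22]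

theorem pts_lt : ∀ p ∈ pts, p < 24 := by
  have h : (pts.all fun p => Nat.blt p 24) = true := by decide +kernel
  intro p hp
  exact Nat.blt_eq.mp (List.all_eq_true.1 h p hp)

/-- the permutation of row `j` -/
def code (j : ℕ) : ℕ := codes.getD j 0

def chkPair (r s : R) : Bool :=
  Nat.beq r.i s.i ||
    cond (tb r.cm s.i) (!(Nat.beq (r.prod s.i) r.i) && Nat.blt (r.prod s.i) 71 &&
        Nat.beq (code (r.prod s.i)) (pcomp r.P s.P))
      (pts.any fun p => !(Nat.beq (papp r.P (papp s.P p)) (papp s.P (papp r.P p))))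

theorem chkPairs : (invRows.all fun r => invRows.all fun s => chkPair r s) = true := by decide +kernel

theorem chkRow : (invRows.all fun r => memL r.P L22 && Nat.beq (code r.i) r.P && tb r.cm r.i) = true := by
  decide +kernel

theorem idx_eq : eqL (invRows.map R.i) (List.range 71) = true := by decide +kernel

theorem chkInv : (L22.all fun P => Nat.beq P idP || memL P codes ||
    (pts.any fun p => !(Nat.beq (papp P (papp P p)) p))) = true := by decide +kernel

theorem chkGo : go invRows 0 [] B10 = true := by decide +kernel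

theorem papp_idP' : (pts.all fun p => Nat.beq (papp idP p) p) = true := by decide +kernel

theorem code_row {r : R} (h : r ∈ invRows) : r.P ∈ L22 ∧ code r.i = r.P ∧ r.cm.testBit r.i = true := by
  have h1 := List.all_eq_true.1 chkRow r h
  rw [Bool.and_eq_true, Bool.and_eq_true] at h1
  exact ⟨memL_iff.1 h1.1.1, Nat.eq_of_beq_eq_true h1.1.2, by rw [← tb_eq]; exact h1.2⟩

theorem map_i : invRows.map R.i = List.range 71 := eq_of_eqL idx_eq

theorem exists_row {j : ℕ} (h : j < 71) : ∃ r ∈ invRows, r.i = j := by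
  have h1 : j ∈ invRows.map R.i := by rw [map_i]; exact List.mem_range.2 h
  obtain ⟨r, hr, h2⟩ := List.mem_map.1 h1
  exact ⟨r, hr, h2⟩

theorem row_lt {r : R} (h : r ∈ invRows) : r.i < 71 := by
  have h1 : r.i ∈ invRows.map R.i := List.mem_map_of_mem h
  rw [map_i] at h1
  exact List.mem_range.1 h1

theorem pairwise_i : (invRows.map R.i).Pairwise (· < ·) := by
  rw [map_i]
  exact List.pairwise_lt_range

/-- commuting invRows and their product -/
theorem pair_spec {r s : R} (hr : r ∈ invRows) (hs : s ∈ invRows) (hne : r.i ≠ s.i)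
    (hc : pcomp r.P s.P = pcomp s.P r.P) :
    r.cm.testBit s.i = true ∧ r.prod s.i ≠ r.i ∧ r.prod s.i < 71 ∧ code (r.prod s.i) = pcomp r.P s.P := by
  have h := List.all_eq_true.1 (List.all_eq_true.1 chkPairs r hr) s hs
  unfold chkPair at h
  rw [Bool.or_eq_true] at h
  rcases h with h | h
  · exact absurd (Nat.eq_of_beq_eq_true h) hne
  cases h1 : tb r.cm s.i with
  | true =>
    rw [h1, cond_true, Bool.and_eq_true, Bool.and_eq_true, Bool.not_eq_true'] at h
    refine ⟨by rw [← tb_eq]; exact h1, fun e => ?_, Nat.blt_eq.mp h.1.2, Nat.eq_of_beq_eq_true h.2⟩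
    rw [e, Nat.beq_refl] at h
    exact absurd h.1.1 (by simp)
  | false =>
    exfalso
    rw [h1, cond_false] at h
    obtain ⟨p, hp, h2⟩ := List.any_eq_true.1 h
    rw [Bool.not_eq_true'] at h2
    rw [← papp_pcomp _ _ (pts_lt p hp), ← papp_pcomp _ _ (pts_lt p hp), hc, Nat.beq_refl] at h2
    exact absurd h2 (by simp)

/-- the involutions of `T22` are the invRows -/
theorem mem_codes {P : ℕ} (hP : P ∈ L22) (hne : P ≠ idP) (h2 : pcomp P P = idP) : ∃ j < 71, code j = P := by
  have h := List.all_eq_true.1 chkInv P hP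
  rw [Bool.or_eq_true, Bool.or_eq_true] at h
  rcases h with (h | h) | h
  · exact absurd (Nat.eq_of_beq_eq_true h) hne
  · obtain ⟨r, hr, h3⟩ := List.mem_map.1 (memL_iff.1 h)
    exact ⟨r.i, row_lt hr, by rw [(code_row hr).2.1, h3]⟩
  · exfalso
    obtain ⟨p, hp, h3⟩ := List.any_eq_true.1 h
    rw [Bool.not_eq_true'] at h3
    have h4 := Nat.eq_of_beq_eq_true (List.all_eq_true.1 papp_idP' p hp)
    rw [← papp_pcomp _ _ (pts_lt p hp), h2, h4, Nat.beq_refl] at h3
    exact absurd h3 (by simp)

end Cfsg.Agent.Omega.CoTwoK.ElChk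

end

section


/-!
# Elementary abelian 2-subgroups of `Spor.Co2` (helper902)

* `maxEl` : an elementary abelian subgroup of the Sylow 2-subgroup `T` is contained in `E` or has order at most `2 ^ 9`;
* `card_le` : an elementary abelian 2-subgroup of `Spor.Co2` has order at most `2 ^ 10`;
* `conj_E` : an elementary abelian 2-subgroup of order `2 ^ 10` is conjugate to `E`; in `T` it is `E`.
-/

set_option autoImplicit false

namespace Cfsg.Agent.Omega.CoTwoK.RankCo2

open Cfsg Cfsg.Agent.SporadicA.GolayPerm Cfsg.Agent.Co2Type.TData Cfsg.Agent.Co2Type.TGroup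
open Cfsg.Agent.Co2Type.Mono Cfsg.Agent.SporadicStructure.M24El Cfsg.Agent.Co2Type.FactsD
open Cfsg.Agent.Omega.CoTwoK.ElAlg Cfsg.Agent.Omega.CoTwoK.ElData Cfsg.Agent.Omega.CoTwoK.ElChk

/-! ### the map `T → M24` -/

noncomputable def mP (g : T) : ℕ := (mem_T_iff.1 g.2).choose

noncomputable def pP (g : T) : ℕ := (mem_T_iff.1 g.2).choose_spec.choose

theorem spec (g : T) : inE (mP g) = true ∧ pP g ∈ L22 ∧ (g : Spor.Co2) = mo2 (mP g) (pP g) :=
  (mem_T_iff.1 g.2).choose_spec.choose_spec

theorem pP_eq {g : T} {m P : ℕ} (hm : inE m = true) (hP : P ∈ L22) (h : (g : Spor.Co2) = mo2 m P) :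
    mP g = m ∧ pP g = P := by
  obtain ⟨h1, h2, h3⟩ := spec g
  rw [h] at h3
  obtain ⟨h4, h5⟩ := mo2_injT hm h1 hP h2 h3
  exact ⟨h4.symm, h5.symm⟩

theorem pP_mul (a b : T) : pP (a * b) = pcomp (pP a) (pP b) := by
  obtain ⟨h1, h2, h3⟩ := spec a
  obtain ⟨k1, k2, k3⟩ := spec b
  refine (pP_eq (inE_xor h1 (inE_pimg (okP_of_mem h2) k1)) (pcomp_mem h2 k2) ?_).2
  rw [← mo2_mul h1 k1 (okP_of_mem h2) (okP_of_mem k2), ← h3, ← k3]
  rfl

/-- the permutation part -/
noncomputable def rho : T →* M24 :=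
  MonoidHom.mk' (fun g => el (pP g)) fun a b => by
    show el (pP (a * b)) = el (pP a) * el (pP b)
    rw [pP_mul, el_pcomp (ok_of_mem (spec a).2.1) (ok_of_mem (spec b).2.1)]

theorem rho_apply (g : T) : rho g = el (pP g) := rfl

theorem rho_eq_one {g : T} : rho g = 1 ↔ pP g = idP := by
  rw [rho_apply, ← el_idP]
  exact ⟨fun h => el_inj (ok_of_mem (spec g).2.1) ok_idP (lt_of_mem (spec g).2.1) idP_lt h, fun h => by rw [h]⟩

/-! ### elementary abelian subgroups of `T` -/

section

variable {A : Subgroup Spor.Co2} (hA : A ≤ T) (h2 : ∀ a ∈ A, a * a = 1)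

include h2 in
theorem comm {a b : Spor.Co2} (ha : a ∈ A) (hb : b ∈ A) : a * b = b * a := by
  have h3 : (a * b)⁻¹ = a * b := inv_eq_of_mul_eq_one_left (h2 _ (A.mul_mem ha hb))
  have h4 : a⁻¹ = a := inv_eq_of_mul_eq_one_left (h2 a ha)
  have h5 : b⁻¹ = b := inv_eq_of_mul_eq_one_left (h2 b hb)
  rw [mul_inv_rev, h4, h5] at h3
  exact h3.symm

/-- the indices of the involutions of the image of `A` -/
def S (A : Subgroup Spor.Co2) (j : ℕ) : Prop := j < 71 ∧ ∃ m, inE m = true ∧ mo2 m (code j) ∈ A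

/-- the masks of the elements of `A ⊓ E` -/
def V (A : Subgroup Spor.Co2) (n : ℕ) : Prop := inE n = true ∧ mo2 n idP ∈ A

theorem code_mem {j : ℕ} (h : j < 71) : code j ∈ L22 := by
  obtain ⟨r, hr, rfl⟩ := exists_row h
  obtain ⟨h1, h3, -⟩ := code_row hr
  rw [h3]; exact h1

include h2 in
theorem fix_of {m n P : ℕ} (hm : inE m = true) (hP : P ∈ L22) (hn : inE n = true) (h1 : mo2 m P ∈ A)
    (h3 : mo2 n idP ∈ A) : pimg P n = n := by
  have h4 := comm h2 h1 h3
  rw [mo2_conj_E hm hn (okP_of_mem hP) (lt_of_mem hP)] at h4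
  have h5 := mul_right_cancel h4
  exact (mo2_injT (inE_pimg (okP_of_mem hP) hn) hn idP_mem idP_mem h5).1

include h2 in
theorem pcomp_comm_of {m n P Q : ℕ} (hm : inE m = true) (hP : P ∈ L22) (hn : inE n = true) (hQ : Q ∈ L22)
    (h1 : mo2 m P ∈ A) (h3 : mo2 n Q ∈ A) : pcomp P Q = pcomp Q P := by
  have h4 := comm h2 h1 h3
  rw [mo2_mul hm hn (okP_of_mem hP) (okP_of_mem hQ), mo2_mul hn hm (okP_of_mem hQ) (okP_of_mem hP)] at h4
  exact (mo2_injT (inE_xor hm (inE_pimg (okP_of_mem hP) hn)) (inE_xor hn (inE_pimg (okP_of_mem hQ) hm))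
    (pcomp_mem hP hQ) (pcomp_mem hQ hP) h4).2

include h2 in
/-- the enumeration -/
theorem exists_lists : ∃ H' U' : List ℕ, (∀ j, S A j → j ∈ H') ∧ (∀ n, V A n → Sp U' n) ∧
    (H' = [] ∨ (H'.length + 1) * 2 ^ U'.length ≤ 512) := by
  have hrow : ∀ r ∈ invRows, S A r.i → ∃ m, inE m = true ∧ mo2 m r.P ∈ A := by
    rintro r hr ⟨-, m, hm, h3⟩
    rw [(code_row hr).2.1] at h3
    exact ⟨m, hm, h3⟩
  refine go_sound (all := invRows) (S := S A) (V := V A) ?_ ?_ ?_ ?_ invRows (fun r hr => hr) pairwise_i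
    0 [] B10 ?_ ?_ ?_ ?_ chkGo
  · intro r hr
    exact isPerm_of_mem (code_row hr).1
  · intro r hr hS n hn
    obtain ⟨m, hm, h3⟩ := hrow r hr hS
    exact fix_of h2 hm (code_row hr).1 hn.1 h3 hn.2
  · intro r hr hS j hj
    obtain ⟨s, hs, rfl⟩ := exists_row hj.1
    by_cases hne : r.i = s.i
    · rw [← hne]; exact (code_row hr).2.2
    · obtain ⟨m, hm, h3⟩ := hrow r hr hS
      obtain ⟨n, hn, h4⟩ := hrow s hs hj
      exact (pair_spec hr hs hne (pcomp_comm_of h2 hm (code_row hr).1 hn (code_row hs).1 h3 h4)).1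
  · intro r hr hS j hj hne
    obtain ⟨s, hs, rfl⟩ := exists_row hj.1
    obtain ⟨m, hm, h3⟩ := hrow r hr hS
    obtain ⟨n, hn, h4⟩ := hrow s hs hj
    obtain ⟨-, h5, h6, h7⟩ :=
      pair_spec hr hs hne (pcomp_comm_of h2 hm (code_row hr).1 hn (code_row hs).1 h3 h4)
    refine ⟨⟨h6, _, inE_xor hm (inE_pimg (okP_of_mem (code_row hr).1) hn), ?_⟩, h5⟩
    rw [h7, ← mo2_mul hm hn (okP_of_mem (code_row hr).1) (okP_of_mem (code_row hs).1)]
    exact A.mul_mem h3 h4
  · intro j
    rw [Nat.zero_testBit]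
    simp
  · intro j hj
    exact absurd hj (by simp)
  · intro j hj
    right
    rw [map_i]
    exact List.mem_range.2 hj.1
  · intro n hn
    exact sp_B10 hn.1

include h2 in
/-- a nontrivial permutation part is a row -/
theorem exists_code {m P : ℕ} (hm : inE m = true) (hP : P ∈ L22) (h : mo2 m P ∈ A) (hne : P ≠ idP) :
    ∃ j, S A j ∧ code j = P := by
  have h3 := h2 _ h
  rw [mo2_mul hm hm (okP_of_mem hP) (okP_of_mem hP)] at h3
  have h4 : mo2 (m ^^^ pimg P m) (pcomp P P) = mo2 0 idP := by rw [h3, mo2_one]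
  have h5 := (mo2_injT (inE_xor hm (inE_pimg (okP_of_mem hP) hm)) inE_zero (pcomp_mem hP hP) idP_mem h4).2
  obtain ⟨j, hj, h6⟩ := mem_codes hP hne h5
  exact ⟨j, ⟨hj, m, hm, by rw [h6]; exact h⟩, h6⟩

include hA h2 in
/-- **An elementary abelian subgroup of `T` is contained in `E` or has order at most `2 ^ 9`.** -/
theorem maxEl : A ≤ E ∨ Nat.card A ≤ 2 ^ 9 := by
  obtain ⟨H', U', hH, hU, h3⟩ := exists_lists h2
  rcases h3 with h3 | h3
  · left
    intro g hg
    obtain ⟨m, P, hm, hP, rfl⟩ := hA hg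
    by_cases hne : P = idP
    · subst hne
      exact mo2_mem_E hm
    · exfalso
      obtain ⟨j, hj, -⟩ := exists_code h2 hm hP hg hne
      have h4 := hH j hj
      rw [h3] at h4
      exact absurd h4 (by simp)
  · right
    let φ : A →* M24 := rho.comp (Subgroup.inclusion hA)
    have hφ : ∀ a : A, φ a = rho ⟨(a : Spor.Co2), hA a.2⟩ := fun a => rfl
    have h4 := φ.ker.card_mul_index
    rw [Subgroup.index_ker] at h4
    have hfinA : Finite A := by
      have := Nat.finite_of_card_ne_zero (α := T) (by rw [Cfsg.Agent.Co2Type.TCard.card_T]; norm_num)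
      exact Finite.of_injective _ (Subgroup.inclusion_injective hA)
    -- the kernel
    have hk : Nat.card φ.ker ≤ 2 ^ U'.length := by
      obtain ⟨hf, hn⟩ := ncard_sp U'
      refine le_trans ?_ hn
      rw [← Nat.card_coe_set_eq]
      have : Finite ({a | Sp U' a} : Set ℕ) := hf
      have key : ∀ a : φ.ker, V A (mP ⟨((a : A) : Spor.Co2), hA (a : A).2⟩) ∧
          ((a : A) : Spor.Co2) = mo2 (mP ⟨((a : A) : Spor.Co2), hA (a : A).2⟩) idP := by
        intro a
        obtain ⟨h5, h6, h7⟩ := spec ⟨((a : A) : Spor.Co2), hA (a : A).2⟩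
        have h8 : rho ⟨((a : A) : Spor.Co2), hA (a : A).2⟩ = 1 := a.2
        rw [rho_eq_one] at h8
        rw [h8] at h7
        have h9 : ((a : A) : Spor.Co2) = mo2 (mP ⟨((a : A) : Spor.Co2), hA (a : A).2⟩) idP := h7
        refine ⟨⟨h5, ?_⟩, h9⟩
        rw [← h9]
        exact (a : A).2
      apply Nat.card_le_card_of_injective
        (fun a : φ.ker => (⟨mP ⟨((a : A) : Spor.Co2), hA (a : A).2⟩, hU _ (key a).1⟩ : {a | Sp U' a}))
      intro a b hab
      have hab' : mP ⟨((a : A) : Spor.Co2), hA (a : A).2⟩ = mP ⟨((b : A) : Spor.Co2), hA (b : A).2⟩ :=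
        congrArg Subtype.val hab
      apply Subtype.ext
      apply Subtype.ext
      rw [(key a).2, (key b).2, hab']
    -- the image
    have hr : Nat.card φ.range ≤ H'.length + 1 := by
      have hsub : ((φ.range : Subgroup M24) : Set M24) ⊆ ((idP :: H'.map code).map el).toFinset := by
        rintro _ ⟨a, rfl⟩
        obtain ⟨h5, h6, h7⟩ := spec ⟨(a : Spor.Co2), hA a.2⟩
        rw [Finset.mem_coe, List.mem_toFinset, List.mem_map]
        refine ⟨pP ⟨(a : Spor.Co2), hA a.2⟩, ?_, rfl⟩
        by_cases hne : pP ⟨(a : Spor.Co2), hA a.2⟩ = idP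
        · rw [hne]; exact List.mem_cons_self
        · obtain ⟨j, hj, h8⟩ := exists_code h2 h5 h6 (by rw [← h7]; exact a.2) hne
          exact List.mem_cons_of_mem _ (List.mem_map.2 ⟨j, hH j hj, h8⟩)
      have h5 := Set.ncard_le_ncard hsub (Finset.finite_toSet _)
      rw [Set.ncard_coe_finset] at h5
      have h6 : Nat.card φ.range = ((φ.range : Subgroup M24) : Set M24).ncard := by
        rw [← Nat.card_coe_set_eq]; rfl
      rw [h6]
      refine h5.trans ((List.toFinset_card_le _).trans ?_)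
      simp
    calc Nat.card A = Nat.card φ.ker * Nat.card φ.range := h4.symm
      _ ≤ 2 ^ U'.length * (H'.length + 1) := Nat.mul_le_mul hk hr
      _ = (H'.length + 1) * 2 ^ U'.length := Nat.mul_comm _ _
      _ ≤ 2 ^ 9 := h3

end

/-! ### elementary abelian 2-subgroups of `Spor.Co2` -/

theorem finite_T : Finite T := Nat.finite_of_card_ne_zero (by rw [Cfsg.Agent.Co2Type.TCard.card_T]; norm_num)

/-- an elementary abelian subgroup of `T` of order at least `2 ^ 10` is `E` -/
theorem eq_E {A : Subgroup Spor.Co2} (hA : A ≤ T) (h2 : ∀ a ∈ A, a * a = 1) (h : 2 ^ 10 ≤ Nat.card A) : A = E := by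
  have h1 : A ≤ E := (maxEl hA h2).resolve_right (by omega)
  have : Finite E := Nat.finite_of_card_ne_zero (by rw [Cfsg.Agent.Co2Type.TCard.card_E]; norm_num)
  apply Subgroup.eq_of_le_of_card_ge h1
  rw [Cfsg.Agent.Co2Type.TCard.card_E]
  exact h

/-- a 2-subgroup of `Spor.Co2` is conjugate to a subgroup of `T` -/
theorem exists_conj_le [Finite Spor.Co2] {A : Subgroup Spor.Co2} (hA : IsPGroup 2 A) :
    ∃ g : Spor.Co2, A.map (MulAut.conj g).toMonoidHom ≤ T := by
  have : Fact (Nat.Prime 2) := ⟨Nat.prime_two⟩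
  have hT : IsPGroup 2 T := IsPGroup.of_card Cfsg.Agent.Co2Type.TCard.card_T
  let P : Sylow 2 Spor.Co2 := hT.toSylow Cfsg.Agent.Co2Type.FactsClass.odd_index
  obtain ⟨Q, hQ⟩ := hA.exists_le_sylow
  obtain ⟨g, hg⟩ := MulAction.exists_smul_eq Spor.Co2 Q P
  refine ⟨g, ?_⟩
  have h1 : ((g • Q : Sylow 2 Spor.Co2) : Subgroup Spor.Co2) = T := by
    rw [hg]; rfl
  rw [← h1]
  rintro _ ⟨a, ha, rfl⟩
  exact ⟨a, hQ ha, rfl⟩

theorem isPGroup_of_sq {G : Type*} [Group G] {A : Subgroup G} (h2 : ∀ a ∈ A, a * a = 1) : IsPGroup 2 A := fun a =>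
  ⟨1, Subtype.ext (by rw [pow_one, pow_two]; exact h2 a a.2)⟩

/-- **An elementary abelian 2-subgroup of `Spor.Co2` has order at most `2 ^ 10`.** -/
theorem card_le [Finite Spor.Co2] {A : Subgroup Spor.Co2} (h2 : ∀ a ∈ A, a * a = 1) : Nat.card A ≤ 2 ^ 10 := by
  obtain ⟨g, hg⟩ := exists_conj_le (isPGroup_of_sq h2)
  have hc : Nat.card (A.map (MulAut.conj g).toMonoidHom) = Nat.card A :=
    Nat.card_congr (A.equivMapOfInjective _ (MulAut.conj g).injective).toEquiv.symm
  rw [← hc]
  rcases maxEl hg (by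
    rintro _ ⟨a, ha, rfl⟩
    rw [← map_mul, h2 a ha, map_one]) with h | h
  · have := Cfsg.Agent.Co2Type.TCard.card_E
    have hE : Finite E := Nat.finite_of_card_ne_zero (by rw [this]; norm_num)
    rw [← this]
    exact Nat.card_le_card_of_injective _ (Subgroup.inclusion_injective h)
  · exact h.trans (by norm_num)

/-- **An elementary abelian 2-subgroup of `Spor.Co2` of order `2 ^ 10` is conjugate to `E`.** -/
theorem conj_E [Finite Spor.Co2] {A : Subgroup Spor.Co2} (h2 : ∀ a ∈ A, a * a = 1) (h : 2 ^ 10 ≤ Nat.card A) :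
    ∃ g : Spor.Co2, A.map (MulAut.conj g).toMonoidHom = E := by
  obtain ⟨g, hg⟩ := exists_conj_le (isPGroup_of_sq h2)
  refine ⟨g, eq_E hg ?_ ?_⟩
  · rintro _ ⟨a, ha, rfl⟩
    rw [← map_mul, h2 a ha, map_one]
  · rw [Nat.card_congr (A.equivMapOfInjective _ (MulAut.conj g).injective).toEquiv.symm]
    exact h

end Cfsg.Agent.Omega.CoTwoK.RankCo2

end
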